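import Groth.Agent.Lib.CohDelta.BC.Transpose

set_option linter.style.haveILetI false

/-!
# Semilinear maps that become bijective after base change
-/

noncomputable section

universe u

open TensorProduct

namespace Groth.Agent.Lib.H70.BCLift

section Algebra

variable {R S : Type u} [CommRing R] [CommRing S] (χ : R →+* S) {M N : Type u} [AddCommGroup M] [Module R M]
  [AddCommGroup N] [Module S N]

/-- `θ` is `χ`-semilinear and its extension `S ⊗_R M → N` is bijective. -/
def IsBC (θ : M →+ N) : Prop :=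
  (∀ (r : R) (m : M), θ (r • m) = χ r • θ m) ∧
  letI := χ.toAlgebra
  ∀ L : S ⊗[R] M →+ N, (∀ (s : S) (m : M), L (s ⊗ₜ m) = s • θ m) → Function.Bijective L

variable {χ}

/-- Transport along isomorphisms. -/
theorem IsBC.transport {R' S' : Type u} [CommRing R'] [CommRing S'] {χ' : R' →+* S'} {M' N' : Type u}
    [AddCommGroup M'] [Module R' M'] [AddCommGroup N'] [Module S' N'] {θ : M →+ N} {θ' : M' →+ N'}
    (h : IsBC χ θ) (eR : R → R') (heR : Function.Surjective eR) (eS : S → S') (heS : Function.Surjective eS)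
    (eS_add : ∀ a b, eS (a + b) = eS a + eS b) (eS_mul : ∀ a b, eS (a * b) = eS a * eS b)
    (eM : M →+ M') (heM : Function.Surjective eM) (eN : N →+ N') (heN : Function.Bijective eN)
    (hχ : ∀ r, χ' (eR r) = eS (χ r))
    (hM : ∀ r m, eM (r • m) = eR r • eM m) (hN : ∀ s y, eN (s • y) = eS s • eN y)
    (hθ : ∀ m, θ' (eM m) = eN (θ m)) : IsBC χ' θ' := by
  refine ⟨fun r' m' => ?_, ?_⟩
  · obtain ⟨r, rfl⟩ := heR r'
    obtain ⟨m, rfl⟩ := heM m'
    rw [← hM, hθ, h.1, hN, hθ, hχ]
  letI := χ.toAlgebra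
  letI := χ'.toAlgebra
  intro L' hL'
  let τ : S ⊗[R] M →+ S' ⊗[R'] M' := TensorProduct.liftAddHom
    (AddMonoidHom.mk' (fun s => AddMonoidHom.mk' (fun m => eS s ⊗ₜ eM m)
      (fun a b => by rw [map_add, TensorProduct.tmul_add]))
      (fun a b => AddMonoidHom.ext fun m => by
        show eS (a + b) ⊗ₜ[R'] eM m = _
        rw [eS_add, TensorProduct.add_tmul]; rfl))
    (fun r s m => by
      show eS (r • s) ⊗ₜ[R'] eM m = eS s ⊗ₜ[R'] eM (r • m)
      rw [hM, ← TensorProduct.smul_tmul, Algebra.smul_def, eS_mul, Algebra.smul_def]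
      exact congrArg (· ⊗ₜ[R'] _) (congrArg (· * _) (hχ r).symm))
  have hτ : Function.Surjective τ := by
    intro z
    induction z using TensorProduct.induction_on with
    | zero => exact ⟨0, map_zero τ⟩
    | tmul s m =>
      obtain ⟨s, rfl⟩ := heS s
      obtain ⟨m, rfl⟩ := heM m
      exact ⟨s ⊗ₜ m, rfl⟩
    | add a b ha hb =>
      obtain ⟨a, rfl⟩ := ha
      obtain ⟨b, rfl⟩ := hb
      exact ⟨a + b, map_add τ a b⟩
  let L : S ⊗[R] M →+ N := TensorProduct.liftAddHom
    (AddMonoidHom.mk' (fun s => AddMonoidHom.mk' (fun m => s • θ m)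
      (fun a b => by rw [map_add, smul_add]))
      (fun a b => AddMonoidHom.ext fun m => add_smul a b (θ m)))
    (fun r s m => by
      show (r • s) • θ m = s • θ (r • m)
      rw [h.1, smul_smul, Algebra.smul_def, mul_comm]
      rfl)
  have hL : Function.Bijective L := h.2 L fun s m => rfl
  have hc : ∀ z, L' (τ z) = eN (L z) := by
    intro z
    induction z using TensorProduct.induction_on with
    | zero => simp
    | tmul s m =>
      show L' (eS s ⊗ₜ eM m) = eN (s • θ m)
      rw [hL', hθ, hN]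
    | add a b ha hb => simp only [map_add, ha, hb]
  constructor
  · intro a b hab
    obtain ⟨a, rfl⟩ := hτ a
    obtain ⟨b, rfl⟩ := hτ b
    rw [hc, hc] at hab
    rw [hL.1 (heN.1 hab)]
  · intro y
    obtain ⟨x, rfl⟩ := heN.2 y
    obtain ⟨z, rfl⟩ := hL.2 x
    exact ⟨τ z, hc z⟩

/-- A module generated by one element whose image is a basis. -/
theorem IsBC.of_gen {θ : M →+ N} (hs : ∀ (r : R) (m : M), θ (r • m) = χ r • θ m) (e : M)
    (hM : ∀ a : M, ∃ r : R, r • e = a) (hN : Function.Bijective fun s : S => s • θ e) : IsBC χ θ := by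
  refine ⟨hs, ?_⟩
  letI := χ.toAlgebra
  intro L hL
  have hgen : ∀ z : S ⊗[R] M, ∃ s : S, z = s ⊗ₜ e := by
    intro z
    induction z using TensorProduct.induction_on with
    | zero => exact ⟨0, (TensorProduct.zero_tmul _ _).symm⟩
    | tmul s a =>
      obtain ⟨r, rfl⟩ := hM a
      exact ⟨r • s, (TensorProduct.smul_tmul _ _ _).symm⟩
    | add a b ha hb =>
      obtain ⟨s, rfl⟩ := ha
      obtain ⟨t, rfl⟩ := hb
      exact ⟨s + t, (TensorProduct.add_tmul _ _ _).symm⟩
  constructor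
  · intro a b hab
    obtain ⟨s, rfl⟩ := hgen a
    obtain ⟨t, rfl⟩ := hgen b
    rw [hN.1 ((hL s e).symm.trans (hab.trans (hL t e)))]
  · intro y
    obtain ⟨s, hs⟩ := hN.2 y
    exact ⟨s ⊗ₜ e, (hL s e).trans hs⟩

end Algebra

section Sheaf

open CategoryTheory AlgebraicGeometry AlgebraicGeometry.Scheme.Modules TopologicalSpace Opposite
open Groth.Agent.Lib.CohDelta.BC.Transpose _root_.ZarCoh.FlatBC.PullbackSections

variable {S S' : Scheme.{u}} (g : S' ⟶ S) {A : S.Modules} {B : S'.Modules}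
  (φ : A ⟶ (pushforward g).obj B)

/-- `m ↦ φ(m)|W`. -/
def sectMap {V : S.Opens} {W : S'.Opens} (e : W ≤ g ⁻¹ᵁ V) : Γ(A, V) →+ Γ(B, W) :=
  (B.presheaf.map (homOfLE e).op).hom.comp (φ.app V).hom

theorem sectMap_apply {V : S.Opens} {W : S'.Opens} (e : W ≤ g ⁻¹ᵁ V) (m : Γ(A, V)) :
    sectMap g φ e m = B.presheaf.map (homOfLE e).op (φ.app V m) := rfl

/-- The transpose is bijective on `W` if `A(V) → B(W)` is a base change. -/
theorem bijective_transpose [A.IsQuasicoherent] {V : S.Opens} {W : S'.Opens} (hV : IsAffineOpen V)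
    (hW : IsAffineOpen W) (e : W ≤ g ⁻¹ᵁ V) (h : IsBC (g.appLE V W e).hom (sectMap g φ e)) :
    Function.Bijective ((((pullbackPushforwardAdjunction g).homEquiv A B).symm φ).app W) := by
  letI := (g.appLE V W e).hom.toAlgebra
  let ν := ((pullbackPushforwardAdjunction g).homEquiv A B).symm φ
  refine (Function.Bijective.of_comp_iff _ (bijective_pbTensor g A hV hW e)).1 ?_
  refine h.2 ((ν.app W).hom.comp (pbTensor g A e).toAddMonoidHom) fun s m => ?_
  show ν.app W (pbTensor g A e (s ⊗ₜ m)) = _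
  rw [pbTensor_tmul, Scheme.Modules.Hom.app_smul]
  exact congrArg (s • ·) (transpose_pbRes g φ e m)

end Sheaf

end Groth.Agent.Lib.H70.BCLift
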