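import Groth.Agent.Lib.QCoh.Localizing

/-!
# Bijectivity of a map of quasi-coherent modules on basic opens
-/

universe u

open CategoryTheory AlgebraicGeometry Opposite

namespace Groth.Agent.Lib.H70.QCohBasic

open Groth.Agent.Lib.QCoh.Localizing

/-- A morphism of quasi-coherent modules bijective on an affine open is bijective on its basic opens. -/
theorem bijective_basicOpen {X : Scheme.{u}} {F G : X.Modules} [F.IsQuasicoherent] [G.IsQuasicoherent]
    (φ : F ⟶ G) {U : X.Opens} (hU : IsAffineOpen U) (h : Function.Bijective (φ.app U)) (r : Γ(X, U)) :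
    Function.Bijective (φ.app (X.basicOpen r)) := by
  have hF := localizes_of_isAffineOpen F hU r
  have hG := localizes_of_isAffineOpen G hU r
  have hu : IsUnit (resR (X.basicOpen_le r) r) :=
    RingedSpace.isUnit_res_basicOpen X.toRingedSpace r
  constructor
  · rw [injective_iff_map_eq_zero]
    intro s hs
    obtain ⟨k, t, ht⟩ := hF.ext' s
    obtain ⟨l, hl⟩ := hG.sep (φ.app U t) (by
      rw [res_app, ht, Scheme.Modules.Hom.app_smul, hs, smul_zero])
    rw [← Scheme.Modules.Hom.app_smul] at hl
    have h0 := congrArg (res F (X.basicOpen_le r)) (h.1 (hl.trans (map_zero (φ.app U).hom).symm))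
    rw [res_smul, ht, map_zero, map_pow, smul_smul, ← pow_add] at h0
    exact (hu.pow _).smul_eq_zero.1 h0
  · intro s
    obtain ⟨k, t, ht⟩ := hG.ext' s
    obtain ⟨t', rfl⟩ := h.2 t
    refine ⟨((hu.pow k).unit⁻¹ : (Γ(X, X.basicOpen r))ˣ).1 • res F (X.basicOpen_le r) t', ?_⟩
    rw [Scheme.Modules.Hom.app_smul, ← res_app, ht, smul_smul, IsUnit.val_inv_mul, one_smul]

end Groth.Agent.Lib.H70.QCohBasic
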