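import Groth.Agent.Lib.H70.GrSec
import Groth.Agent.Lib.H70.BCLift
import Groth.Agent.H81.RelProj.ComapIso
import Groth.Agent.Lib.H70.QCohBasic

set_option linter.style.haveILetI false
set_option linter.unusedSectionVars false

/-!
# Sections of `M(n)~` over `D₊(f)` commute with base change
-/

noncomputable section

universe u

open CategoryTheory AlgebraicGeometry TopologicalSpace Opposite DirectSum
open HomogeneousLocalization (Away)
open scoped HomogeneousIdeal TensorProduct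

namespace Groth.Agent.Lib.H70.GrBaseChange

open Groth.Agent.Lib.H70.GrSec Groth.Agent.Lib.H70.BCLift
open Groth.Agent.H81.RelProj.GrTilde.Frac Groth.Agent.H81.RelProj.GrTilde.Basic

variable {A σ : Type u} [CommRing A] [SetLike σ A] [AddSubgroupClass σ A] {𝒜 : ℕ → σ} [GradedRing 𝒜]
  {B σ' : Type u} [CommRing B] [SetLike σ' B] [AddSubgroupClass σ' B] {ℬ : ℕ → σ'} [GradedRing ℬ]
  {M τ : Type u} [AddCommGroup M] [Module A M] [SetLike τ M] [AddSubgroupClass τ M] {ℳ : ℕ → τ}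
  [SetLike.GradedSMul 𝒜 ℳ] [DirectSum.Decomposition ℳ]
  {N τ' : Type u} [AddCommGroup N] [Module B N] [SetLike τ' N] [AddSubgroupClass τ' N] {𝒩 : ℕ → τ'}
  [SetLike.GradedSMul ℬ 𝒩] [DirectSum.Decomposition 𝒩]
  (ψ : 𝒜 →+*ᵍ ℬ) (hψ : ℬ₊ ≤ (𝒜₊).map ψ)
  (v : M →ₛₗ[ψ.toRingHom] N) (hv : ∀ (i : ℕ) (m : M), m ∈ ℳ i → v m ∈ 𝒩 i)
  {R' R : Type u} [CommRing R'] [CommRing R] (ι' : R' →+* A) (hι' : ∀ r, ι' r ∈ 𝒜 0)
  (ι : R →+* B) (hι : ∀ r, ι r ∈ ℬ 0) (χ : R' →+* R)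

/-- `N = R ⊗_{R'} M`, along `v`: the images span, and semilinear maps extend. -/
structure IsBaseChangeMap : Prop where
  span : ∀ x : N, x ∈ AddSubmonoid.closure {y | ∃ (r : R) (m : M), y = ι r • v m}
  lift : ∀ (Q : Type u) [AddCommGroup Q] [Module R Q] (w : M →+ Q),
    (∀ (r : R') (m : M), w (ι' r • m) = χ r • w m) →
      ∃ g : N →+ Q, ∀ (r : R) (m : M), g (ι r • v m) = r • w m

variable {ψ v ι' ι χ}

include hι hv in
/-- An additive property holds on `𝒩 i` if it holds at the `r v(m)`, `m ∈ ℳ i`. -/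
theorem IsBaseChangeMap.induction (h : IsBaseChangeMap ψ v ι' ι χ) {i : ℕ} {P : N → Prop} (h0 : P 0)
    (hadd : ∀ a b, P a → P b → P (a + b)) (hb : ∀ (r : R) (m : M), m ∈ ℳ i → P (ι r • v m))
    {x : N} (hx : x ∈ 𝒩 i) : P x := by
  rw [← proj_of_mem hx]
  have := h.span x
  clear hx
  induction this using AddSubmonoid.closure_induction with
  | mem y hy =>
    obtain ⟨r, m, rfl⟩ := hy
    have hvm : proj 𝒩 i (v m) = v (proj ℳ i m) := by
      induction m using DirectSum.Decomposition.inductionOn ℳ with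
      | zero => simp
      | @homogeneous l m =>
        by_cases hl : l = i
        · subst hl
          rw [proj_of_mem m.2, proj_of_mem (hv _ _ m.2)]
        · show (decompose 𝒩 (v (m : M)) i : N) = v (decompose ℳ (m : M) i : M)
          rw [decompose_of_mem_ne 𝒩 (hv _ _ m.2) hl, decompose_of_mem_ne ℳ m.2 hl, map_zero]
      | add a b ha hb => rw [map_add, map_add, ha, hb, map_add, map_add]
    have h2 := proj_smul 𝒩 (hι r) i (v m)
    rw [zero_add] at h2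
    rw [h2, hvm]
    exact hb r _ (proj_mem ℳ i m)
  | zero => rw [map_zero]; exact h0
  | add a b _ _ ha hb => rw [map_add]; exact hadd _ _ ha hb

variable {d : ℕ} {f : A} (hf : f ∈ 𝒜 d) (hd : 0 < d) (n : ℤ)

theorem appLE_sc (l : ℕ) (a : A) (ha : a ∈ 𝒜 (l * d))
    (e : Proj.basicOpen ℬ (ψ f) ≤ Proj.map ψ hψ ⁻¹ᵁ Proj.basicOpen 𝒜 f) :
    (Proj.map ψ hψ).appLE (Proj.basicOpen 𝒜 f) (Proj.basicOpen ℬ (ψ f)) e (sc hf l a ha) =
      sc (ψ.map_mem hf) l (ψ a) (ψ.map_mem ha) := by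
  show _ = Proj.awayToSection ℬ (ψ f) _
  refine (congr($(Proj.awayToSection_comp_appLE ψ hψ hf) (Away.mk 𝒜 hf l a (by rwa [smul_eq_mul])))).trans ?_
  refine congrArg (Proj.awayToSection ℬ (ψ f)) ?_
  exact Away.map_mk ψ f hf l a _

include hv hι hf hd in
theorem isBC (hι' : ∀ r, ι' r ∈ 𝒜 0) (hcompat : ∀ r, ψ (ι' r) = ι (χ r))
    (hA : ∀ b : B, b ∈ AddSubmonoid.closure {y | ∃ (r : R) (a : A), y = ι r * ψ a})
    (hM : IsBaseChangeMap ψ v ι' ι χ)
    (e : Proj.basicOpen ℬ (ψ f) ≤ Proj.map ψ hψ ⁻¹ᵁ Proj.basicOpen 𝒜 f) :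
    IsBC ((Proj.map ψ hψ).appLE (Proj.basicOpen 𝒜 f) (Proj.basicOpen ℬ (ψ f)) e).hom
      (sectMap (Proj.map ψ hψ) (GrMod.comap ψ hψ v hv n) e) := by
  classical
  have hf' : ψ f ∈ ℬ d := ψ.map_mem hf
  let Φ := Proj.map ψ hψ
  let V := Proj.basicOpen 𝒜 f
  let W := Proj.basicOpen ℬ (ψ f)
  let θ := sectMap Φ (GrMod.comap ψ hψ v hv n) e
  have hsl : ∀ (r : Γ(Proj 𝒜, V)) (m : Γ(GrMod.tilde 𝒜 ℳ n, V)), θ (r • m) = Φ.appLE V W e r • θ m := by
    intro r m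
    show (GrMod.tilde ℬ 𝒩 n).presheaf.map (homOfLE e).op ((GrMod.comap ψ hψ v hv n).app V (r • m)) = _
    rw [Scheme.Modules.Hom.app_smul]
    exact Scheme.Modules.map_smul _ _ _ _
  refine ⟨hsl, ?_⟩
  letI : Algebra Γ(Proj 𝒜, V) Γ(Proj ℬ, W) := (Φ.appLE V W e).hom.toAlgebra
  intro Ψ hΨ
  let T := Γ(Proj ℬ, W) ⊗[Γ(Proj 𝒜, V)] Γ(GrMod.tilde 𝒜 ℳ n, V)
  let cB := cst ι hι (ψ f)
  let cA := cst ι' hι' f
  letI : Module R T := Module.compHom T cB
  have hsmulT : ∀ (r : R) (t : T), r • t = cB r • t := fun _ _ => rfl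
  have hχ : ∀ r, cB (χ r) = Φ.appLE V W e (cA r) := by
    intro r
    show cst ι hι (ψ f) (χ r) = Φ.appLE V W e (cst ι' hι' f r)
    rw [cst_eq_sc hf', cst_eq_sc hf, appLE_sc hψ hf]
    congr 1
    exact (hcompat r).symm
  have hθF : ∀ (k : ℕ) (hk : n.natAbs ≤ k) (m : M), m ∈ ℳ (idx d n k) →
      θ (F ℳ hf hd n k hk m) = F 𝒩 hf' hd n k hk (v m) := by
    intro k hk m hm
    refine sect_ext (U := ProjectiveSpectrum.basicOpen ℬ (ψ f)) fun y => ?_
    let y' : ProjectiveSpectrum.basicOpen 𝒜 f := ⟨ProjectiveSpectrum.comap ψ hψ y.1, y.2⟩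
    show GrMod.locModMap ψ hψ v y.1 (val (F ℳ hf hd n k hk m :
      GrMod.sect 𝒜 ℳ n (op (ProjectiveSpectrum.basicOpen 𝒜 f))) y') = _
    rw [val_F hf hd hk hm y', val_F hf' hd hk (hv _ _ hm) y, GrMod.locModMap_mk]
    exact congrArg (LocalizedModule.mk _) (Subtype.ext (map_pow ψ f k))
  have hg : ∀ (k : ℕ) (hk : n.natAbs ≤ k), ∃ g : N →+ T, ∀ (r : R) (m : M),
      g (ι r • v m) = cB r • ((1 : Γ(Proj ℬ, W)) ⊗ₜ[Γ(Proj 𝒜, V)] F ℳ hf hd n k hk m) := by
    intro k hk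
    exact hM.lift T (AddMonoidHom.mk' (fun m => (1 : Γ(Proj ℬ, W)) ⊗ₜ[Γ(Proj 𝒜, V)] F ℳ hf hd n k hk m)
      fun a b => by rw [map_add, TensorProduct.tmul_add]) fun r m => by
        show (1 : Γ(Proj ℬ, W)) ⊗ₜ[Γ(Proj 𝒜, V)] F ℳ hf hd n k hk (ι' r • m) = χ r • _
        rw [← cst_smul_F hf hd ι' hι', TensorProduct.tmul_smul, hsmulT, hχ]
        exact (algebraMap_smul Γ(Proj ℬ, W) (cA r) _).symm
  choose g hg using hg
  have hΨadd := Ψ.map_add
  have hΨg : ∀ (k : ℕ) (hk : n.natAbs ≤ k) {x : N}, x ∈ 𝒩 (idx d n k) →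
      Ψ (g k hk x) = F 𝒩 hf' hd n k hk x := by
    intro k hk x hx
    refine hM.induction hv hι (P := fun x => Ψ (g k hk x) = F 𝒩 hf' hd n k hk x) ?_ ?_ ?_ hx
    · simp only [map_zero]
    · intro a b ha hb; simp only [map_add, ha, hb]
    · intro r m hm
      rw [hg, TensorProduct.smul_tmul', smul_eq_mul, mul_one, hΨ]
      refine Eq.trans (congrArg (cB r • ·) (hθF k hk m hm)) ?_
      exact cst_smul_F hf' hd ι hι r hk (v m)
  have hstep : ∀ (k : ℕ) (hk : n.natAbs ≤ k) (hk' : n.natAbs ≤ 1 + k) (x : N),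
      g (1 + k) hk' (ψ f • x) = g k hk x := by
    intro k hk hk' x
    induction hM.span x using AddSubmonoid.closure_induction with
    | mem y hy =>
      obtain ⟨r, m, rfl⟩ := hy
      rw [smul_comm, show ψ f • v m = v (f • m) from (v.map_smulₛₗ f m).symm, hg, hg, F_smul_self hf hd]
    | zero => rw [smul_zero, map_zero, map_zero]
    | add a b _ _ ha hb => rw [smul_add, map_add, map_add, ha, hb]
  have hiter : ∀ (K : ℕ) (k : ℕ) (hk : n.natAbs ≤ k) (hk' : n.natAbs ≤ K + k) (x : N),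
      g (K + k) hk' (ψ f ^ K • x) = g k hk x := by
    intro K
    induction K with
    | zero =>
      intro k hk hk' x
      have key : ∀ (j : ℕ) (hj : n.natAbs ≤ j), j = k → g j hj x = g k hk x := by
        rintro j hj rfl; rfl
      rw [pow_zero, one_smul]
      exact key _ _ (zero_add k)
    | succ K ih =>
      intro k hk hk' x
      have key : ∀ (j : ℕ) (hj : n.natAbs ≤ j), j = 1 + (K + k) →
          g j hj (ψ f ^ (K + 1) • x) = g (1 + (K + k)) (by omega) (ψ f ^ (K + 1) • x) := by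
        rintro j hj rfl; rfl
      rw [key _ _ (by omega), pow_succ', mul_smul, hstep (K + k) (by omega), ih k hk]
  have hbump : ∀ (K k : ℕ) (hk : n.natAbs ≤ k) {x : N}, x ∈ 𝒩 (idx d n k) →
      ψ f ^ K • x ∈ 𝒩 (idx d n (K + k)) := by
    intro K k hk x hx
    rw [idx_add hd hk]
    exact smul_mem_of_mem (by simpa using SetLike.pow_mem_graded K hf') hx
  have hall : ∀ t : T, ∃ (k : ℕ) (hk : n.natAbs ≤ k) (x : N), x ∈ 𝒩 (idx d n k) ∧ g k hk x = t := by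
    intro t
    induction t using TensorProduct.induction_on with
    | zero => exact ⟨n.natAbs, le_rfl, 0, zero_mem _, map_zero _⟩
    | tmul s m =>
      obtain ⟨k, hk, m, rfl⟩ := exists_eq_F hf hd m
      obtain ⟨l, b, hb, rfl⟩ := sc_surjective hf' hd s
      have hm0 : F ℳ hf hd n k hk m = F ℳ hf hd n k hk (proj ℳ (idx d n k) m) :=
        sect_ext (U := ProjectiveSpectrum.basicOpen 𝒜 f) fun y => by
          rw [val_F', val_F hf hd hk (proj_mem ℳ _ m)]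
      rw [hm0]
      generalize hm' : proj ℳ (idx d n k) m = m'
      have hmem : m' ∈ ℳ (idx d n k) := hm' ▸ proj_mem ℳ _ m
      refine ⟨l + k, by omega, b • v m', ?_, ?_⟩
      · rw [idx_add hd hk]; exact smul_mem_of_mem hb (hv _ _ hmem)
      let P : B → Prop := fun b => ∃ hb : b ∈ ℬ (l * d),
        g (l + k) (by omega) (b • v m') = sc hf' l b hb ⊗ₜ[Γ(Proj 𝒜, V)] F ℳ hf hd n k hk m'
      suffices P b from this.2
      have h0 : P 0 := ⟨zero_mem _, by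
        have h00 : sc hf' l (0 : B) (zero_mem _) = 0 := by
          have := sc_add hf' l (zero_mem (ℬ (l * d))) (zero_mem (ℬ (l * d)))
          simp only [add_zero] at this
          simpa using this
        rw [zero_smul, map_zero, h00, TensorProduct.zero_tmul]⟩
      have hadd : ∀ a b, P a → P b → P (a + b) := by
        rintro a b ⟨ha, ha'⟩ ⟨hb, hb'⟩
        refine ⟨add_mem ha hb, ?_⟩
        rw [add_smul, map_add, ha', hb', sc_add hf' l ha hb, TensorProduct.add_tmul]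
      have hgen : ∀ (r : R) (a : A), a ∈ 𝒜 (l * d) → P (ι r * ψ a) := by
        intro r a ha
        have hmem' : ι r * ψ a ∈ ℬ (l * d) := by
          simpa using SetLike.mul_mem_graded (hι r) (ψ.map_mem ha)
        refine ⟨hmem', ?_⟩
        rw [mul_smul, show ψ a • v m' = v (a • m') from (v.map_smulₛₗ a m').symm, hg,
          ← sc_smul_F hf hd ha hk, TensorProduct.tmul_smul, ← algebraMap_smul Γ(Proj ℬ, W) (sc hf l a ha),
          smul_smul, TensorProduct.smul_tmul', smul_eq_mul, mul_one]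
        congr 1
        show cst ι hι (ψ f) r * Φ.appLE V W e (sc hf l a ha) = _
        rw [appLE_sc hψ hf, cst_eq_sc hf', sc, sc, sc]
        refine (map_mul (Proj.awayToSection ℬ (ψ f)).hom _ _).symm.trans ?_
        refine congrArg (Proj.awayToSection ℬ (ψ f)) (HomogeneousLocalization.val_injective _ ?_)
        rw [HomogeneousLocalization.val_mul, Away.val_mk, Away.val_mk, Away.val_mk, Localization.mk_mul]
        exact congrArg₂ Localization.mk rfl (Subtype.ext (by simp))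
      -- pass to the homogeneous component
      rw [← proj_of_mem hb]
      clear hb
      induction hA b using AddSubmonoid.closure_induction with
      | mem y hy =>
        obtain ⟨r, a, rfl⟩ := hy
        have h2 := proj_smul ℬ (hι r) (l * d) (ψ a)
        rw [zero_add, smul_eq_mul, smul_eq_mul] at h2
        rw [h2, show proj ℬ (l * d) (ψ a) = ψ (proj 𝒜 (l * d) a) from (map_directSumDecompose 𝒜 ℬ ψ).symm]
        exact hgen r _ (proj_mem 𝒜 _ a)
      | zero => rw [map_zero]; exact h0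
      | add a b _ _ ha hb => rw [map_add]; exact hadd _ _ ha hb
    | add a b ha hb =>
      obtain ⟨k₁, hk₁, x₁, hx₁, rfl⟩ := ha
      obtain ⟨k₂, hk₂, x₂, hx₂, rfl⟩ := hb
      refine ⟨k₂ + k₁, by omega, ψ f ^ k₂ • x₁ + ψ f ^ k₁ • x₂, add_mem (hbump k₂ k₁ hk₁ hx₁) ?_, ?_⟩
      · rw [add_comm]; exact hbump k₁ k₂ hk₂ hx₂
      · have key : ∀ (j : ℕ) (hj : n.natAbs ≤ j), j = k₁ + k₂ →
            g j hj (ψ f ^ k₁ • x₂) = g (k₁ + k₂) (by omega) (ψ f ^ k₁ • x₂) := by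
          rintro j hj rfl; rfl
        rw [map_add, hiter k₂ k₁ hk₁, key _ _ (add_comm _ _), hiter k₁ k₂ hk₂]
  constructor
  · rw [injective_iff_map_eq_zero]
    intro t ht
    obtain ⟨k, hk, x, hx, rfl⟩ := hall t
    rw [hΨg k hk hx] at ht
    obtain ⟨K, hK⟩ := F_eq_zero hf' hd hk ht
    rw [proj_of_mem hx] at hK
    rw [← hiter K k hk (by omega), hK, map_zero]
  · intro y
    obtain ⟨k, hk, x, rfl⟩ := exists_eq_F hf' hd y
    refine ⟨g k hk (proj 𝒩 (idx d n k) x), (hΨg k hk (proj_mem 𝒩 _ x)).trans ?_⟩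
    exact sect_ext (U := ProjectiveSpectrum.basicOpen ℬ (ψ f)) fun z => by
      rw [val_F', val_F' _ _ _ x, proj_of_mem (proj_mem 𝒩 _ x)]

end Groth.Agent.Lib.H70.GrBaseChange

namespace Groth.Agent.Lib.H70.GrBaseChange

open Groth.Agent.Lib.CohDelta.BC.Transpose Groth.Agent.Lib.H70.QCohBasic Groth.Agent.Lib.H70.BCLift

variable {A σ : Type u} [CommRing A] [SetLike σ A] [AddSubgroupClass σ A] {𝒜 : ℕ → σ} [GradedRing 𝒜]
  {B σ' : Type u} [CommRing B] [SetLike σ' B] [AddSubgroupClass σ' B] {ℬ : ℕ → σ'} [GradedRing ℬ]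
  {M τ : Type u} [AddCommGroup M] [Module A M] [SetLike τ M] [AddSubgroupClass τ M] {ℳ : ℕ → τ}
  [SetLike.GradedSMul 𝒜 ℳ] [DirectSum.Decomposition ℳ]
  {N τ' : Type u} [AddCommGroup N] [Module B N] [SetLike τ' N] [AddSubgroupClass τ' N] {𝒩 : ℕ → τ'}
  [SetLike.GradedSMul ℬ 𝒩] [DirectSum.Decomposition 𝒩]
  {ψ : 𝒜 →+*ᵍ ℬ} (hψ : ℬ₊ ≤ (𝒜₊).map ψ)
  {v : M →ₛₗ[ψ.toRingHom] N} (hv : ∀ (i : ℕ) (m : M), m ∈ ℳ i → v m ∈ 𝒩 i)
  {R' R : Type u} [CommRing R'] [CommRing R] {ι' : R' →+* A} (hι' : ∀ r, ι' r ∈ 𝒜 0)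
  {ι : R →+* B} (hι : ∀ r, ι r ∈ ℬ 0) {χ : R' →+* R}

include hι' hι in
/-- The transpose of the comparison of `M(n)~` with `N(n)~` is an isomorphism. -/
theorem isIso_transpose_comap (hcompat : ∀ r, ψ (ι' r) = ι (χ r))
    (hA : ∀ b : B, b ∈ AddSubmonoid.closure {y | ∃ (r : R) (a : A), y = ι r * ψ a})
    (hM : IsBaseChangeMap ψ v ι' ι χ) (n : ℤ) :
    IsIso (((Scheme.Modules.pullbackPushforwardAdjunction (Proj.map ψ hψ)).homEquiv _ _).symm
      (GrMod.comap ψ hψ v hv n)) := by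
  haveI : (GrMod.tilde 𝒜 ℳ n).IsQuasicoherent := Groth.Agent.H81.RelProj.GrTilde.QCoh.tilde_isQCoh n
  haveI : (GrMod.tilde ℬ 𝒩 n).IsQuasicoherent := Groth.Agent.H81.RelProj.GrTilde.QCoh.tilde_isQCoh n
  haveI := Groth.Agent.Lib.QCoh.Pullback.isQCoh_pullback (Proj.map ψ hψ) (GrMod.tilde 𝒜 ℳ n)
  let ν := ((Scheme.Modules.pullbackPushforwardAdjunction (Proj.map ψ hψ)).homEquiv _ _).symm
    (GrMod.comap ψ hψ v hv n)
  have key : ∀ (d : ℕ) (f : A) (hd : 0 < d) (hf : f ∈ 𝒜 d),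
      Function.Bijective (ν.app (Proj.basicOpen ℬ (ψ f))) := fun d f hd hf =>
    bijective_transpose (Proj.map ψ hψ) (GrMod.comap ψ hψ v hv n) (Proj.isAffineOpen_basicOpen 𝒜 f hf hd)
      (Proj.isAffineOpen_basicOpen ℬ (ψ f) (ψ.map_mem hf) hd) le_rfl
      (isBC hψ hv hι hf hd n hι' hcompat hA hM le_rfl)
  refine isIso_of_bijective_basis ν
    (B := {W | ∃ (d : ℕ) (f : A) (_ : 0 < d) (_ : f ∈ 𝒜 d) (r : Γ(Proj ℬ, Proj.basicOpen ℬ (ψ f))),
      W = (Proj ℬ).basicOpen r}) ?_ ?_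
  · refine Opens.isBasis_iff_nbhd.2 fun {U y} hy => ?_
    obtain ⟨d, hd, f, hf, hfy⟩ : ∃ d, 0 < d ∧ ∃ f ∈ 𝒜 d,
        f ∉ (ProjectiveSpectrum.comap ψ hψ y).asHomogeneousIdeal := by
      by_contra h
      push Not at h
      exact (ProjectiveSpectrum.comap ψ hψ y).not_irrelevant_le ((HomogeneousIdeal.irrelevant_le 𝒜).mpr h)
    obtain ⟨r, hr, hyr⟩ := (Proj.isAffineOpen_basicOpen ℬ (ψ f) (ψ.map_mem hf) hd).exists_basicOpen_le
      (⟨y, hy⟩ : U) hfy
    exact ⟨_, ⟨d, f, hd, hf, r, rfl⟩, hyr, hr⟩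
  · rintro _ ⟨d, f, hd, hf, r, rfl⟩
    exact bijective_basicOpen ν (Proj.isAffineOpen_basicOpen ℬ (ψ f) (ψ.map_mem hf) hd) (key d f hd hf) r

end Groth.Agent.Lib.H70.GrBaseChange
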