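import Groth.Agent.H81.RelProj.GrTilde.QCoh
import Groth.Agent.Lib.QCoh.Localizing
import Mathlib.Algebra.DirectSum.Ring

set_option linter.style.haveILetI false
set_option linter.unusedSectionVars false

/-!
# Dehomogenisation at an element of degree one

For `f` of degree one: the ring map `A → Γ(D₊(f), O)`, `a ↦ a / fⁱ` (`deg a = i`), and the map
`M → Γ(D₊(f), M(n)~)`, `m ↦ m / f^(i - n)`.
-/

noncomputable section

universe u

open CategoryTheory AlgebraicGeometry TopologicalSpace Opposite DirectSum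
open HomogeneousLocalization (Away)

namespace Groth.Agent.Lib.H70.GrDeh

open Groth.Agent.H81.RelProj.GrTilde.Frac Groth.Agent.H81.RelProj.GrTilde.Basic
open Groth.Agent.H81.RelProj.GrTilde.QCoh

variable {A σ : Type u} [CommRing A] [SetLike σ A] [AddSubgroupClass σ A] {𝒜 : ℕ → σ} [GradedRing 𝒜]
variable {f : A} (hf : f ∈ 𝒜 1)

include hf in
theorem pow_mem (k : ℕ) : f ^ k ∈ 𝒜 k := by simpa using SetLike.pow_mem_graded k hf

theorem basicOpen_le_pow (k : ℕ) :
    ProjectiveSpectrum.basicOpen 𝒜 f ≤ ProjectiveSpectrum.basicOpen 𝒜 (f ^ k) :=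
  fun y hy h => hy (y.isPrime.mem_of_pow_mem k h)

/-- `a ↦ a / fⁱ`. -/
def mkn (i : ℕ) (a : 𝒜 i) : Away 𝒜 f :=
  Away.mk 𝒜 hf i (a : A) (by rw [smul_eq_mul, mul_one]; exact a.2)

theorem val_mkn (i : ℕ) (a : 𝒜 i) :
    (mkn hf i a).val = Localization.mk (a : A) ⟨f ^ i, _root_.pow_mem (Submonoid.mem_powers f) i⟩ :=
  Away.val_mk 𝒜 i hf _ _

/-- `a ↦ a / fⁱ`, additively. -/
def gn (i : ℕ) : 𝒜 i →+ Away 𝒜 f :=
  AddMonoidHom.mk' (mkn hf i) fun x y => HomogeneousLocalization.val_injective _ (by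
    rw [HomogeneousLocalization.val_add, val_mkn, val_mkn, val_mkn, Localization.add_mk_self, AddMemClass.coe_add])

/-- The dehomogenisation `A →+* A_(f)`. -/
def dehAway : A →+* Away 𝒜 f :=
  (DirectSum.toSemiring (gn hf)
    (HomogeneousLocalization.val_injective _ (by
      show (mkn hf 0 _).val = _
      rw [val_mkn, HomogeneousLocalization.val_one, ← Localization.mk_one]
      exact congrArg₂ Localization.mk rfl (Subtype.ext (pow_zero _))))
    (fun {i j} ai aj => HomogeneousLocalization.val_injective _ (by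
      show (mkn hf (i + j) _).val = (mkn hf i ai * mkn hf j aj).val
      rw [HomogeneousLocalization.val_mul, val_mkn, val_mkn, val_mkn, Localization.mk_mul]
      exact congrArg₂ Localization.mk rfl (Subtype.ext (pow_add _ _ _))))).comp
    (DirectSum.decomposeRingEquiv 𝒜).toRingHom

theorem dehAway_of_mem {i : ℕ} {a : A} (ha : a ∈ 𝒜 i) : dehAway hf a = mkn hf i ⟨a, ha⟩ := by
  simp only [dehAway, RingHom.comp_apply]
  refine Eq.trans (congrArg _ (show (DirectSum.decomposeRingEquiv 𝒜).toRingHom a =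
    DirectSum.of (fun i => 𝒜 i) i ⟨a, ha⟩ from DirectSum.decompose_of_mem 𝒜 ha)) ?_
  exact DirectSum.toSemiring_of _ _ _ _ _

/-- The dehomogenisation into functions on `D₊(f)`. -/
def dehO : A →+* Γ(Proj 𝒜, Proj.basicOpen 𝒜 f) :=
  (Proj.awayToSection 𝒜 f).hom.comp (dehAway hf)

theorem dehO_of_mem {i : ℕ} {a : A} (ha : a ∈ 𝒜 i) (y : ProjectiveSpectrum.basicOpen 𝒜 f)
    (hy : f ^ i ∉ y.1.asHomogeneousIdeal) :
    ((dehO hf a : GrTwist.O (𝒜 := 𝒜) (op (ProjectiveSpectrum.basicOpen 𝒜 f))).1 y).val =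
      Localization.mk a ⟨f ^ i, hy⟩ := by
  show ((Proj.awayToSection 𝒜 f (dehAway hf a) :
    GrTwist.O (𝒜 := 𝒜) (op (ProjectiveSpectrum.basicOpen 𝒜 f))).1 y).val = _
  rw [dehAway_of_mem hf ha]
  exact val_awayToSection hf i a _ y hy

theorem dehO_self : dehO hf f = 1 := by
  rw [dehO, RingHom.comp_apply, show dehAway hf f = 1 from by
    rw [dehAway_of_mem hf hf]
    refine HomogeneousLocalization.val_injective _ ?_
    rw [val_mkn, HomogeneousLocalization.val_one, Localization.mk_eq_mk', IsLocalization.mk'_eq_iff_eq_mul, one_mul]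
    simp]
  exact map_one _

theorem dehO_surjective : Function.Surjective (dehO hf) := by
  intro z
  haveI : IsIso (Proj.awayToSection 𝒜 f) :=
    inferInstanceAs (IsIso (Proj.basicOpenIsoAway 𝒜 f hf Nat.one_pos).hom)
  obtain ⟨w, rfl⟩ := (ConcreteCategory.bijective_of_isIso (Proj.awayToSection 𝒜 f)).2 z
  obtain ⟨i, a, ha, rfl⟩ := Away.mk_surjective 𝒜 hf w
  refine ⟨a, ?_⟩
  have ha' : a ∈ 𝒜 i := by rwa [smul_eq_mul, mul_one] at ha
  show Proj.awayToSection 𝒜 f (dehAway hf a) = _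
  rw [dehAway_of_mem hf ha']
  rfl

variable {M τ : Type u} [AddCommGroup M] [Module A M] [SetLike τ M] [AddSubgroupClass τ M] {ℳ : ℕ → τ}
  [SetLike.GradedSMul 𝒜 ℳ] [DirectSum.Decomposition ℳ] (n : ℤ)

include hf in
theorem deg_aux (i : ℕ) {m : M} (hm : m ∈ ℳ i) :
    Deg ℳ (((((i : ℤ) - n).toNat : ℕ) : ℤ) + n) (f ^ (n - (i : ℤ)).toNat • m) :=
  Deg.of_mem (smul_mem_of_mem (pow_mem hf _) hm) (Or.inl (by push_cast; omega))

/-- `m ↦ m / f^(i - n)`. -/
def mn (i : ℕ) : ℳ i →+ GrMod.sect 𝒜 ℳ n (op (ProjectiveSpectrum.basicOpen 𝒜 f)) :=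
  AddMonoidHom.mk'
    (fun m => fracSec _ (pow_mem hf ((i : ℤ) - n).toNat) (deg_aux hf n i m.2) (basicOpen_le_pow _))
    fun x y => sect_ext fun z => by
      rw [val_add, val_fracSec, val_fracSec, val_fracSec, LocalizedModule.mk_add_mk, LocalizedModule.mk_eq]
      exact ⟨1, by simp only [one_smul, Submonoid.smul_def, AddMemClass.coe_add,
        smul_add, mul_smul]⟩

/-- The dehomogenisation `M → Γ(D₊(f), M(n)~)`. -/
def deh : M →+ Γ(GrMod.tilde 𝒜 ℳ n, Proj.basicOpen 𝒜 f) :=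
  (DirectSum.toAddMonoid (mn hf n)).comp (DirectSum.decomposeAddEquiv ℳ).toAddMonoidHom

theorem deh_of_mem {i : ℕ} {m : M} (hm : m ∈ ℳ i) :
    deh (ℳ := ℳ) hf n m = (mn hf n i ⟨m, hm⟩ :) := by
  show DirectSum.toAddMonoid (mn hf n) (DirectSum.decompose ℳ m) = _
  rw [DirectSum.decompose_of_mem ℳ hm, DirectSum.toAddMonoid_of]

theorem val_deh {i : ℕ} {m : M} (hm : m ∈ ℳ i) (y : ProjectiveSpectrum.basicOpen 𝒜 f)
    (hy : f ^ ((i : ℤ) - n).toNat ∉ y.1.asHomogeneousIdeal) :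
    val (deh (ℳ := ℳ) hf n m : GrMod.sect 𝒜 ℳ n (op (ProjectiveSpectrum.basicOpen 𝒜 f))) y =
      LocalizedModule.mk (f ^ (n - (i : ℤ)).toNat • m) ⟨f ^ ((i : ℤ) - n).toNat, hy⟩ := by
  rw [deh_of_mem hf n hm]
  rfl

theorem deh_smul (a : A) (m : M) : deh (ℳ := ℳ) hf n (a • m) = dehO hf a • deh (ℳ := ℳ) hf n m := by
  induction m using DirectSum.Decomposition.inductionOn ℳ with
  | zero => rw [smul_zero, map_zero, smul_zero]
  | @homogeneous i m =>
    induction a using DirectSum.Decomposition.inductionOn 𝒜 with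
    | zero => rw [zero_smul, map_zero, map_zero, zero_smul]
    | @homogeneous j a =>
      refine sect_ext (U := ProjectiveSpectrum.basicOpen 𝒜 f) fun y => ?_
      have hne : ∀ k, f ^ k ∉ y.1.asHomogeneousIdeal := fun k => basicOpen_le_pow k y.2
      refine (val_deh hf n (smul_mem_of_mem a.2 m.2) y (hne _)).trans ?_
      refine Eq.trans ?_ (val_smul (U := ProjectiveSpectrum.basicOpen 𝒜 f) (dehO hf (a : A)) _ y).symm
      rw [dehO_of_mem hf a.2 y (hne _), val_deh hf n m.2 y (hne _), LocalizedModule.mk_smul_mk,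
        LocalizedModule.mk_eq]
      refine ⟨1, ?_⟩
      simp only [one_smul, Submonoid.smul_def, Submonoid.coe_mul, smul_smul]
      congr 1
      have he : j + ((i : ℤ) - n).toNat + (n - ((j + i : ℕ) : ℤ)).toNat =
          (((j + i : ℕ) : ℤ) - n).toNat + (n - (i : ℤ)).toNat := by omega
      rw [← mul_assoc, ← pow_add, ← pow_add, he, pow_add]
      ring
    | add a b ha hb => rw [add_smul, map_add, map_add, add_smul, ha, hb]
  | add a b ha hb => rw [smul_add, map_add, map_add, smul_add, ha, hb]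

/-- Every section on `D₊(f)` is a dehomogenisation. -/
theorem deh_surjective : Function.Surjective (deh (ℳ := ℳ) hf n) := by
  intro s
  obtain ⟨k, i, m, hm, hi, hval⟩ := exists_frac_basicOpen (n := n) Nat.one_pos hf
    (s : GrMod.sect 𝒜 ℳ n (op (ProjectiveSpectrum.basicOpen 𝒜 f)))
  refine ⟨m, sect_ext (U := ProjectiveSpectrum.basicOpen 𝒜 f) fun y => ?_⟩
  have hne : ∀ k, f ^ k ∉ y.1.asHomogeneousIdeal := fun k => basicOpen_le_pow k y.2
  refine (val_deh hf n hm y (hne _)).trans ((Eq.trans ?_ (hval y (hne k)).symm))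
  rw [LocalizedModule.mk_eq]
  refine ⟨1, ?_⟩
  simp only [one_smul, Submonoid.smul_def, smul_smul, ← pow_add]
  congr 2
  omega

end Groth.Agent.Lib.H70.GrDeh
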