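import Groth.Agent.Lib.Modules.ExtendFT
import Groth.Agent.Lib.Modules.GenStalk
import Groth.Agent.Lib.QCoh.Pushforward
import Groth.Agent.Lib.H70.BCLift

set_option linter.style.haveILetI false

/-!
# A module generated by sections over the base is a quotient of the inverse image of a module of finite type
-/

noncomputable section

universe u

open CategoryTheory Limits AlgebraicGeometry Opposite TopologicalSpace

namespace Groth.Agent.Lib.H70.FTQuot

open Groth.Agent.Lib Groth.Agent.Lib.Modules.SubStalk Groth.Agent.Lib.Modules.ExtendFT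

variable {X : Scheme.{u}} {F : X.Modules}

theorem isLocFG_sup' {S T : Family F} (h : IsLocFG S ⊤) (h' : IsLocFG T ⊤) : IsLocFG (S ⊔ T) ⊤ := by
  intro x hx
  obtain ⟨V, hV, hxV, -, n, s, hs⟩ := h x hx
  obtain ⟨V', hV', hxV', -, n', s', hs'⟩ := h' x hx
  obtain ⟨A, hA, hxA, hle⟩ := exists_isAffineOpen_mem_and_subset (U := V ⊓ V') (x := x) ⟨hxV, hxV'⟩
  have hAV : A ≤ V := fun y hy => (hle hy).1
  have hAV' : A ≤ V' := fun y hy => (hle hy).2
  refine ⟨A, hA, hxA, le_top, n + n', Fin.append (fun i => F.presheaf.map (homOfLE hAV).op (s i))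
    (fun i => F.presheaf.map (homOfLE hAV').op (s' i)), fun y hy => ?_⟩
  show S y ⊔ T y = _
  rw [hs y (hAV hy), hs' y (hAV' hy), ← span_germ_res hAV s hy, ← span_germ_res hAV' s' hy,
    ← Submodule.span_union]
  congr 1
  refine Set.ext fun v => ⟨?_, ?_⟩
  · rintro (⟨i, rfl⟩ | ⟨i, rfl⟩)
    · exact ⟨Fin.castAdd n' i, by simp⟩
    · exact ⟨Fin.natAdd n i, by simp⟩
  · rintro ⟨i, rfl⟩
    induction i using Fin.addCases with
    | left i => exact Or.inl ⟨i, by simp⟩
    | right i => exact Or.inr ⟨i, by simp⟩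

theorem isLocFG_bot : IsLocFG (⊥ : Family F) ⊤ := fun x _ => by
  obtain ⟨A, hA, hxA, -⟩ := exists_isAffineOpen_mem_and_subset (U := ⊤) (x := x) trivial
  exact ⟨A, hA, hxA, le_top, 0, Fin.elim0, fun y hy => (Submodule.span_eq_bot.2 (by simp)).symm⟩

theorem isLocFG_finset_sup {κ : Type*} (t : Finset κ) (S : κ → Family F) (h : ∀ k, IsLocFG (S k) ⊤) :
    IsLocFG (t.sup S) ⊤ := by
  classical
  induction t using Finset.induction with
  | empty => exact isLocFG_bot
  | insert a t _ ih => rw [Finset.sup_insert]; exact isLocFG_sup' (h a) ih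

/-- A finite set of sections over an affine open lies in a family generated by finitely many sections. -/
theorem exists_family [F.IsQuasicoherent] [CompactSpace X] [QuasiSeparatedSpace X] {U : X.Opens}
    (hU : IsAffineOpen U) {n : ℕ} (t : Fin n → Γ(F, U)) :
    ∃ S : Family F, IsLocFG S ⊤ ∧ ∀ i, t i ∈ secs S U := by
  classical
  obtain ⟨s, hs, hcov⟩ := isCompact_and_isOpen_iff_finite_and_eq_biUnion_affineOpens.mp
    (⟨isCompact_univ, isOpen_univ⟩ : IsCompact (Set.univ : Set X) ∧ IsOpen (Set.univ : Set X))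
  haveI := hs.fintype
  let V : Fin (Fintype.card s) → X.Opens := fun k => ((Fintype.equivFin s).symm k).1.1
  have hV : ∀ k, IsAffineOpen (V k) := fun k => ((Fintype.equivFin s).symm k).1.2
  let S₀ : Family F := fun x =>
    if hx : x ∈ U then Submodule.span _ (Set.range fun i => F.presheaf.germ U x hx (t i)) else ⊥
  have hW : ∀ l, IsCompact (overlap V U l : Set X) := fun l => by
    unfold overlap
    rw [Opens.coe_inf, Opens.coe_sup, Opens.coe_iSup]
    refine QuasiSeparatedSpace.inter_isCompact _ _ (V l).2 (hV l).isCompact ?_ ?_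
    · exact U.2.union (isOpen_iUnion fun m => (V m.1).2)
    · exact hU.isCompact.union (isCompact_iUnion fun m => (hV m.1).isCompact)
  refine ⟨total V U S₀, isLocFG_total V U S₀ hV hW (IsLocFG.of_affine hU t fun y hy => dif_pos hy)
    (eq_top_iff.mpr fun x _ => ?_), fun i y hy => ?_⟩
  · obtain ⟨a, ha, hxa⟩ := Set.mem_iUnion₂.mp (hcov ▸ Set.mem_univ x)
    exact Opens.mem_iSup.mpr ⟨Fintype.equivFin s ⟨a, ha⟩, by simpa [V] using hxa⟩
  · rw [total_of_mem _ _ _ hy]
    simp only [S₀, dif_pos hy]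
    exact Submodule.subset_span ⟨i, rfl⟩

variable {P Y : Scheme.{u}} (p : P ⟶ Y) {T : P.Modules}

/-- Sections over the preimage of an open around a point that generate the stalks nearby. -/
theorem exists_nhd [T.IsQuasicoherent] (hT : CohB1.IsFT T) (x : P) {U : Y.Opens} (hx : p x ∈ U)
    (h : Submodule.span (P.presheaf.stalk x)
      (Set.range fun t : Γ(T, p ⁻¹ᵁ U) => T.presheaf.germ (p ⁻¹ᵁ U) x hx t) = ⊤) :
    ∃ (n : ℕ) (t : Fin n → Γ(T, p ⁻¹ᵁ U)) (N : P.Opens) (hN : N ≤ p ⁻¹ᵁ U), x ∈ N ∧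
      ∀ (z : P) (hz : z ∈ N), Submodule.span (P.presheaf.stalk z)
        (Set.range fun i => T.presheaf.germ (p ⁻¹ᵁ U) z (hN hz) (t i)) = ⊤ := by
  classical
  obtain ⟨W, hxW, k, s, hs⟩ := @Modules.GenStalk.exists_span_stalk_of_isFiniteType _ T hT x
  have hQ : ∀ v : T.presheaf.stalk x, ∃ (F' : Finset Γ(T, p ⁻¹ᵁ U)) (N : P.Opens) (hN : N ≤ p ⁻¹ᵁ U)
      (hxN : x ∈ N) (a : Γ(T, N)), T.presheaf.germ N x hxN a = v ∧ ∀ (z : P) (hz : z ∈ N),
        T.presheaf.germ N z hz a ∈ Submodule.span (P.presheaf.stalk z)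
          (T.presheaf.germ (p ⁻¹ᵁ U) z (hN hz) '' F') := by
    intro v
    have hv : v ∈ Submodule.span (P.presheaf.stalk x)
        (Set.range fun t : Γ(T, p ⁻¹ᵁ U) => T.presheaf.germ (p ⁻¹ᵁ U) x hx t) := h ▸ trivial
    induction hv using Submodule.span_induction with
    | mem v hv =>
      obtain ⟨t, rfl⟩ := hv
      exact ⟨{t}, p ⁻¹ᵁ U, le_rfl, hx, t, rfl, fun z hz => Submodule.subset_span ⟨t, by simp, rfl⟩⟩
    | zero => exact ⟨∅, p ⁻¹ᵁ U, le_rfl, hx, 0, map_zero _, fun z hz => by rw [map_zero]; exact zero_mem _⟩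
    | add v w _ _ hv hw =>
      obtain ⟨F₁, N₁, hN₁, hx₁, a, rfl, ha⟩ := hv
      obtain ⟨F₂, N₂, hN₂, hx₂, b, rfl, hb⟩ := hw
      refine ⟨F₁ ∪ F₂, N₁ ⊓ N₂, inf_le_left.trans hN₁, ⟨hx₁, hx₂⟩,
        T.presheaf.map (homOfLE inf_le_left).op a + T.presheaf.map (homOfLE inf_le_right).op b, ?_, fun z hz => ?_⟩
      · rw [map_add, TopCat.Presheaf.germ_res_apply, TopCat.Presheaf.germ_res_apply]
      · rw [map_add, TopCat.Presheaf.germ_res_apply, TopCat.Presheaf.germ_res_apply]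
        exact add_mem (Submodule.span_mono (Set.image_mono (by simp)) (ha z hz.1))
          (Submodule.span_mono (Set.image_mono (by simp)) (hb z hz.2))
    | smul c v _ hv =>
      obtain ⟨F₁, N₁, hN₁, hx₁, a, rfl, ha⟩ := hv
      obtain ⟨N₂, hx₂, r, rfl⟩ := TopCat.Presheaf.exists_germ_eq P.presheaf c
      refine ⟨F₁, N₁ ⊓ N₂, inf_le_left.trans hN₁, ⟨hx₁, hx₂⟩,
        (P.presheaf.map (homOfLE (inf_le_right : N₁ ⊓ N₂ ≤ N₂)).op r : Γ(P, N₁ ⊓ N₂)) •
          (T.presheaf.map (homOfLE (inf_le_left : N₁ ⊓ N₂ ≤ N₁)).op a : Γ(T, N₁ ⊓ N₂)), ?_, fun z hz => ?_⟩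
      · rw [Modules.StalkModule.germ_smul, TopCat.Presheaf.germ_res_apply, TopCat.Presheaf.germ_res_apply]
      · rw [Modules.StalkModule.germ_smul, TopCat.Presheaf.germ_res_apply T.presheaf]
        exact Submodule.smul_mem _ _ (ha z hz.1)
  choose F' N hN hxN a ha hmem using fun i : Fin k => hQ (T.presheaf.germ W x hxW (s i))
  choose M hxM iN iW hM using fun i : Fin k =>
    TopCat.Presheaf.germ_eq T.presheaf x (hxN i) hxW (a i) (s i) (ha i)
  let Fs : Finset Γ(T, p ⁻¹ᵁ U) := Finset.univ.biUnion F'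
  let N₀ : P.Opens := ⟨((p ⁻¹ᵁ U ⊓ W : P.Opens) : Set P) ∩ ⋂ i, (M i : Set P),
    (p ⁻¹ᵁ U ⊓ W).2.inter (isOpen_iInter_of_finite fun i => (M i).2)⟩
  refine ⟨Fs.card, fun i => (Fs.equivFin.symm i).1, N₀, fun z hz => hz.1.1, ⟨⟨hx, hxW⟩, Set.mem_iInter.2 hxM⟩,
    fun z hz => ?_⟩
  rw [eq_top_iff, ← hs z hz.1.2, Submodule.span_le]
  rintro _ ⟨i, rfl⟩
  have hzM : z ∈ M i := Set.mem_iInter.1 hz.2 i
  have e : T.presheaf.germ W z hz.1.2 (s i) = T.presheaf.germ (N i) z ((iN i).le hzM) (a i) := by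
    rw [← TopCat.Presheaf.germ_res_apply T.presheaf (iW i) z hzM, ← hM i,
      TopCat.Presheaf.germ_res_apply T.presheaf (iN i) z hzM]
  show T.presheaf.germ W z hz.1.2 (s i) ∈ _
  rw [e]
  refine Submodule.span_mono ?_ (hmem i z _)
  rintro _ ⟨b, hb, rfl⟩
  exact ⟨Fs.equivFin ⟨b, Finset.mem_biUnion.2 ⟨i, Finset.mem_univ _, hb⟩⟩, by simp⟩

/-- `T` is a quotient of the inverse image of a module of finite type. -/
theorem exists_epi [CompactSpace P] [CompactSpace Y] [QuasiSeparatedSpace Y] [QuasiCompact p] [QuasiSeparated p]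
    [T.IsQuasicoherent] (hT : CohB1.IsFT T)
    (h : ∀ x : P, ∃ (U : Y.Opens) (_ : IsAffineOpen U) (hx : p x ∈ U), Submodule.span (P.presheaf.stalk x)
      (Set.range fun t : Γ(T, p ⁻¹ᵁ U) => T.presheaf.germ (p ⁻¹ᵁ U) x hx t) = ⊤) :
    ∃ (G : Y.Modules) (π : (Scheme.Modules.pullback p).obj G ⟶ T), Coh.IsQCoh G ∧ CohB1.IsFT G ∧ Epi π := by
  classical
  let P' := (Scheme.Modules.pushforward p).obj T
  haveI : P'.IsQuasicoherent := QCoh.Pushforward.isQCoh_pushforward p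
  choose U hU hxU hgenU using h
  choose n t N hN hxN hspan using fun x => exists_nhd p hT x (hxU x) (hgenU x)
  choose S hS hmemS using fun x => exists_family (F := P') (hU x) (t x)
  obtain ⟨K, hK⟩ := isCompact_univ.elim_finite_subcover (fun x => (N x : Set P)) (fun x => (N x).isOpen)
    fun x _ => Set.mem_iUnion.2 ⟨x, hxN x⟩
  have hSK := isLocFG_finset_sup K S hS
  let adj := Scheme.Modules.pullbackPushforwardAdjunction p
  let π : (Scheme.Modules.pullback p).obj (subMod (K.sup S)) ⟶ T := (adj.homEquiv _ _).symm (Modules.SubStalk.ι _)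
  refine ⟨_, π, isQCoh_subMod hSK, isFT_subMod hSK, (Modules.Stalk.epi_iff_stalk_surjective π).2 fun z
    (v : T.presheaf.stalk z) => ?_⟩
  obtain ⟨x, hxK, hzx⟩ := Set.mem_iUnion₂.1 (hK (Set.mem_univ z))
  have hv : v ∈ Submodule.span (P.presheaf.stalk z)
      (Set.range fun i => T.presheaf.germ (p ⁻¹ᵁ U x) z (hN x hzx) (t x i)) := (hspan x z hzx) ▸ trivial
  suffices hr : Submodule.span (P.presheaf.stalk z)
      (Set.range fun i => T.presheaf.germ (p ⁻¹ᵁ U x) z (hN x hzx) (t x i)) ≤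
        LinearMap.range (Modules.StalkModule.stalkMapₗ π z) from hr hv
  rw [Submodule.span_le]
  rintro _ ⟨i, rfl⟩
  have hle : secs (S x) (U x) ≤ secs (K.sup S) (U x) := fun a ha y hy =>
    (Finset.le_sup (f := S) hxK : S x ≤ K.sup S) y (ha y hy)
  obtain ⟨g, hg⟩ := exists_ι_app (hle (hmemS x i))
  refine ⟨((Scheme.Modules.pullback p).obj _).presheaf.germ (p ⁻¹ᵁ U x) z (hN x hzx)
    (_root_.ZarCoh.FlatBC.PullbackSections.pbRes p _ le_rfl g), ?_⟩
  refine (Modules.StalkModule.stalkMapₗ_germ _ _ _).trans ?_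
  refine congrArg _ ?_
  refine (Groth.Agent.Lib.CohDelta.BC.Transpose.transpose_pbRes p (Modules.SubStalk.ι _) le_rfl g).trans ?_
  exact (congr($(T.presheaf.map_id _) _)).trans hg

end Groth.Agent.Lib.H70.FTQuot
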