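import Groth.Prelude.Def_PCone
import Groth.Agent.S3596
import Groth.Agent.Lib.ProjTilde.QCoh

set_option linter.style.haveILetI false

/-!
# The morphism `G(φ) → Proj A` on points and on functions
-/

noncomputable section

universe u

open CategoryTheory AlgebraicGeometry TopologicalSpace Opposite HomogeneousLocalization

namespace Groth.Agent.Lib.H70.DomMap

variable {R A : Type u} [CommRing R] [CommRing A] [Algebra R A] {𝒜 : ℕ → Submodule R A} [GradedAlgebra 𝒜]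
  {B : Type u} [CommRing B] [Algebra R B] {ℬ : ℕ → Submodule R B} [GradedAlgebra ℬ] {φ : 𝒜 →+*ᵍ ℬ}

/-- `p` is the morphism induced by `φ`. -/
def IsDomMap (p : (PCone.dom φ : Scheme.{u}) ⟶ Proj 𝒜) : Prop :=
  ∀ (d : ℕ) (f : A) (hd : 0 < d) (hf : f ∈ 𝒜 d),
    PCone.chart φ hf hd ≫ p =
      Spec.map (CommRingCat.ofHom (HomogeneousLocalization.Away.map φ f)) ≫ Proj.awayι 𝒜 f hf hd

variable {p : (PCone.dom φ : Scheme.{u}) ⟶ Proj 𝒜} (hp : IsDomMap p)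

include hp in
theorem notMem_iff {d : ℕ} {f : A} (hd : 0 < d) (hf : f ∈ 𝒜 d) (y : PCone.dom φ) :
    f ∉ (p y).asHomogeneousIdeal ↔ φ f ∉ y.1.asHomogeneousIdeal :=
  iff_of_eq congr(y ∈ ($(Groth.Agent.S3596.preimage_basicOpen φ p hp hd hf)))

include hp in
/-- `p y` is the inverse image of `y`. -/
theorem comap_eq (y : PCone.dom φ) :
    (p y).asHomogeneousIdeal.toIdeal = y.1.asHomogeneousIdeal.toIdeal.comap φ.toRingHom := by
  classical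
  have key : ∀ (i : ℕ) (a : A), a ∈ 𝒜 i → (a ∈ (p y).asHomogeneousIdeal ↔ φ a ∈ y.1.asHomogeneousIdeal) := by
    intro i a ha
    obtain ⟨⟨f, d, hd, hf⟩, hy⟩ := Opens.mem_iSup.1
      (show (y.1 : Proj ℬ) ∈ ⨆ g : {g : A // ∃ e : ℕ, 0 < e ∧ g ∈ 𝒜 e}, Proj.basicOpen ℬ (φ g.1) from y.2)
    have hy' : φ f ∉ y.1.asHomogeneousIdeal := hy
    have hfp : f ∉ (p y).asHomogeneousIdeal := (notMem_iff hp hd hf y).2 hy'
    have := notMem_iff hp (show 0 < i + d by omega) (SetLike.mul_mem_graded ha hf) y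
    rw [not_iff_not, show φ (a * f) = φ a * φ f from map_mul φ.toRingHom a f] at this
    constructor
    · intro h
      exact (y.1.isPrime.mem_or_mem (this.1 (Ideal.mul_mem_right _ _ h))).resolve_right hy'
    · intro h
      exact ((p y).isPrime.mem_or_mem (this.2 (Ideal.mul_mem_right _ _ h))).resolve_right hfp
  ext a
  rw [Ideal.mem_comap]
  constructor
  · intro ha
    rw [← DirectSum.sum_support_decompose 𝒜 a, map_sum]
    refine sum_mem fun i _ => ?_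
    exact (key i _ (SetLike.coe_mem _)).1 ((p y).asHomogeneousIdeal.isHomogeneous i ha)
  · intro ha
    rw [← DirectSum.sum_support_decompose 𝒜 a]
    refine sum_mem fun i _ => (key i _ (SetLike.coe_mem _)).2 ?_
    have := y.1.asHomogeneousIdeal.isHomogeneous i ha
    rwa [show (DirectSum.decompose ℬ (φ.toRingHom a) i : B) = φ (DirectSum.decompose 𝒜 a i : A) from
      (map_directSumDecompose 𝒜 ℬ φ).symm] at this

/-- The map of local rings `A_{p y} → B_y`. -/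
def locMap (y : PCone.dom φ) :
    Localization.AtPrime (p y).asHomogeneousIdeal.toIdeal →+*
      Localization.AtPrime y.1.asHomogeneousIdeal.toIdeal :=
  Localization.localRingHom _ _ φ.toRingHom (comap_eq hp y)

theorem locMap_mk (y : PCone.dom φ) (a s : A) (hs : s ∉ (p y).asHomogeneousIdeal)
    (hs' : φ s ∉ y.1.asHomogeneousIdeal) :
    locMap hp y (Localization.mk a ⟨s, hs⟩) = Localization.mk (φ a) ⟨φ s, hs'⟩ := by
  rw [locMap, Localization.localRingHom_mk]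
  rfl

omit hp in
theorem awayι_appLE {d : ℕ} {f : A} (hf : f ∈ 𝒜 d) (hd : 0 < d) (a : Away 𝒜 f)
    (e : (⊤ : (Spec (CommRingCat.of (Away 𝒜 f))).Opens) ≤ Proj.awayι 𝒜 f hf hd ⁻¹ᵁ Proj.basicOpen 𝒜 f) :
    (Proj.awayι 𝒜 f hf hd).appLE (Proj.basicOpen 𝒜 f) ⊤ e (Proj.awayToSection 𝒜 f a) =
      (Scheme.ΓSpecIso _).inv a := by
  let i := Proj.basicOpenIsoSpec 𝒜 f hf hd
  have h0 : i.hom.appTop ((Scheme.ΓSpecIso _).inv a) =
      (Proj.basicOpen 𝒜 f).topIso.inv (Proj.awayToSection 𝒜 f a) := by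
    show i.hom.app ⊤ _ = _
    erw [Proj.basicOpenIsoSpec_hom, Proj.basicOpenToSpec_app_top, CommRingCat.comp_apply,
      CommRingCat.comp_apply, Iso.inv_hom_id_apply]
    rfl
  have h1 : (Proj.awayι 𝒜 f hf hd).appLE (Proj.basicOpen 𝒜 f) ⊤ e (Proj.awayToSection 𝒜 f a) =
      i.inv.appTop ((Proj.basicOpen 𝒜 f).topIso.inv (Proj.awayToSection 𝒜 f a)) := by
    have hι : (⊤ : (Proj.basicOpen 𝒜 f : Scheme.{u}).Opens) ≤
        (Proj.basicOpen 𝒜 f).ι ⁻¹ᵁ Proj.basicOpen 𝒜 f := fun z _ => z.2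
    have h2 := Scheme.Hom.appLE_comp_appLE i.inv (Proj.basicOpen 𝒜 f).ι (Proj.basicOpen 𝒜 f) ⊤ ⊤ hι (by simp)
    rw [Scheme.Opens.ι_appLE] at h2
    rw [show (Proj.awayι 𝒜 f hf hd).appLE (Proj.basicOpen 𝒜 f) ⊤ e =
      (i.inv ≫ (Proj.basicOpen 𝒜 f).ι).appLE (Proj.basicOpen 𝒜 f) ⊤ e from rfl, ← h2]
    show i.inv.appLE ⊤ ⊤ _ _ = _
    erw [Scheme.Hom.appLE_eq_app]
    rfl
  rw [h1, ← h0]
  rw [← CommRingCat.comp_apply, ← Scheme.Hom.comp_appTop, i.inv_hom_id, Scheme.Hom.id_appTop]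
  rfl

include hp in
/-- The value of `p^♯` on `D₊(f)`. -/
theorem app_awayToSection {d : ℕ} {f : A} (hd : 0 < d) (hf : f ∈ 𝒜 d) (a : Away 𝒜 f)
    (le : (PCone.dom φ).ι ''ᵁ (p ⁻¹ᵁ Proj.basicOpen 𝒜 f) ≤ Proj.basicOpen ℬ (φ f)) :
    (p.app (Proj.basicOpen 𝒜 f) (Proj.awayToSection 𝒜 f a) :
        Γ(Proj ℬ, (PCone.dom φ).ι ''ᵁ (p ⁻¹ᵁ Proj.basicOpen 𝒜 f))) =
      (Proj ℬ).presheaf.map (homOfLE le).op (Proj.awayToSection ℬ (φ f) (Away.map φ f a)) := by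
  let c := PCone.chart φ hf hd
  let fB : φ f ∈ ℬ d := φ.map_mem hf
  have hc : c ≫ (PCone.dom φ).ι = Proj.awayι ℬ (φ f) fB hd := IsOpenImmersion.lift_fac _ _ _
  haveI : IsOpenImmersion c := by
    haveI : IsOpenImmersion (c ≫ (PCone.dom φ).ι) := by rw [hc]; infer_instance
    exact IsOpenImmersion.of_comp c (PCone.dom φ).ι
  let W := p ⁻¹ᵁ Proj.basicOpen 𝒜 f
  have hW : W = (PCone.dom φ).ι ⁻¹ᵁ Proj.basicOpen ℬ (φ f) :=
    Groth.Agent.S3596.preimage_basicOpen φ p hp hd hf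
  have eW : (⊤ : (Spec (CommRingCat.of (Away ℬ (φ f)))).Opens) ≤ c ⁻¹ᵁ W := by
    rw [hW, ← Scheme.Hom.comp_preimage, hc]
    intro z _
    show Proj.awayι ℬ (φ f) fB hd z ∈ Proj.basicOpen ℬ (φ f)
    rw [← Proj.opensRange_awayι ℬ (φ f) fB hd]
    exact ⟨z, rfl⟩
  have hWr : W ≤ c.opensRange := by
    intro z hz
    rw [hW] at hz
    have hz' : (PCone.dom φ).ι z ∈ (Proj.awayι ℬ (φ f) fB hd).opensRange := by
      rw [Proj.opensRange_awayι]; exact hz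
    obtain ⟨w, hw⟩ := hz'
    refine ⟨w, (PCone.dom φ).ι.isOpenEmbedding.injective ?_⟩
    rw [← Scheme.Hom.comp_apply, hc]
    exact hw
  haveI := c.isIso_app W hWr
  have hinj : Function.Injective (c.appLE W ⊤ eW) := by
    haveI : IsIso ((Spec (CommRingCat.of (Away ℬ (φ f)))).presheaf.map (homOfLE eW).op) := by
      have : (⊤ : (Spec (CommRingCat.of (Away ℬ (φ f)))).Opens) = c ⁻¹ᵁ W := le_antisymm eW le_top
      rw [show homOfLE eW = eqToHom this from Subsingleton.elim _ _, eqToHom_op, eqToHom_map]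
      infer_instance
    haveI : IsIso (c.appLE W ⊤ eW) := by
      rw [Scheme.Hom.appLE]; infer_instance
    exact (ConcreteCategory.bijective_of_isIso (c.appLE W ⊤ eW)).1
  refine hinj ?_
  have eA : (⊤ : (Spec (CommRingCat.of (Away 𝒜 f))).Opens) ≤ Proj.awayι 𝒜 f hf hd ⁻¹ᵁ Proj.basicOpen 𝒜 f := by
    intro z _
    show Proj.awayι 𝒜 f hf hd z ∈ Proj.basicOpen 𝒜 f
    rw [← Proj.opensRange_awayι 𝒜 f hf hd]
    exact ⟨z, rfl⟩
  have eB : (⊤ : (Spec (CommRingCat.of (Away ℬ (φ f)))).Opens) ≤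
      Proj.awayι ℬ (φ f) fB hd ⁻¹ᵁ Proj.basicOpen ℬ (φ f) := by
    intro z _
    show Proj.awayι ℬ (φ f) fB hd z ∈ Proj.basicOpen ℬ (φ f)
    rw [← Proj.opensRange_awayι ℬ (φ f) fB hd]
    exact ⟨z, rfl⟩
  let σ := Spec.map (CommRingCat.ofHom (Away.map φ f))
  have hl : c.appLE W ⊤ eW (p.app (Proj.basicOpen 𝒜 f) (Proj.awayToSection 𝒜 f a)) =
      (Scheme.ΓSpecIso _).inv (Away.map φ f a) := by
    rw [← Scheme.Hom.appLE_eq_app, ← CommRingCat.comp_apply,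
      Scheme.Hom.appLE_comp_appLE c p (Proj.basicOpen 𝒜 f) W ⊤ le_rfl eW]
    have key : c ≫ p = σ ≫ Proj.awayι 𝒜 f hf hd := hp d f hd hf
    have key' : ∀ (h : Spec (CommRingCat.of (Away ℬ (φ f))) ⟶ Proj 𝒜) (e : ⊤ ≤ h ⁻¹ᵁ Proj.basicOpen 𝒜 f),
        h = σ ≫ Proj.awayι 𝒜 f hf hd → h.appLE (Proj.basicOpen 𝒜 f) ⊤ e (Proj.awayToSection 𝒜 f a) =
          (Scheme.ΓSpecIso _).inv (Away.map φ f a) := by
      rintro h e rfl
      rw [← Scheme.Hom.appLE_comp_appLE σ (Proj.awayι 𝒜 f hf hd) (Proj.basicOpen 𝒜 f) ⊤ ⊤ eA (by simp),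
        CommRingCat.comp_apply, awayι_appLE hf hd a eA]
      erw [Scheme.Hom.appLE_eq_app]
      rw [← CommRingCat.comp_apply, ← Scheme.ΓSpecIso_inv_naturality]
      rfl
    exact key' _ _ key
  rw [hl]
  refine Eq.trans ?_ (congrArg (fun t => t (Proj.awayToSection ℬ (φ f) (Away.map φ f a)))
    (show ((PCone.dom φ).ι.appLE (Proj.basicOpen ℬ (φ f)) W (by rw [hW]) ≫ c.appLE W ⊤ eW) = _ ≫ _ from
      congrArg (· ≫ c.appLE W ⊤ eW) (Scheme.Opens.ι_appLE _ _ _ _)))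
  rw [Scheme.Hom.appLE_comp_appLE]
  have key' : ∀ (h : Spec (CommRingCat.of (Away ℬ (φ f))) ⟶ Proj ℬ) (e : ⊤ ≤ h ⁻¹ᵁ Proj.basicOpen ℬ (φ f)),
      h = Proj.awayι ℬ (φ f) fB hd → h.appLE (Proj.basicOpen ℬ (φ f)) ⊤ e
        (Proj.awayToSection ℬ (φ f) (Away.map φ f a)) = (Scheme.ΓSpecIso _).inv (Away.map φ f a) := by
    rintro h e rfl
    exact awayι_appLE fB hd _ e
  exact (key' _ _ hc).symm

include hp in
/-- The value of `p^♯ r` at a point is the image of the value of `r`. -/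
theorem val_app {U : (Proj 𝒜).Opens} (r : Γ(Proj 𝒜, U)) (y : PCone.dom φ) (hy : p y ∈ U)
    (hy' : (y.1 : Proj ℬ) ∈ (PCone.dom φ).ι ''ᵁ (p ⁻¹ᵁ U)) :
    (((p.app U r : Γ(Proj ℬ, (PCone.dom φ).ι ''ᵁ (p ⁻¹ᵁ U))) :
        (ProjectiveSpectrum.Proj.structureSheaf ℬ).1.obj (op ((PCone.dom φ).ι ''ᵁ (p ⁻¹ᵁ U)))).1
          ⟨y.1, hy'⟩).val =
      locMap hp y ((r : (ProjectiveSpectrum.Proj.structureSheaf 𝒜).1.obj (op U)).1 ⟨p y, hy⟩).val := by
  obtain ⟨d, hd, f, hf, hfy, hfU⟩ : ∃ d, 0 < d ∧ ∃ f ∈ 𝒜 d, (p y) ∈ Proj.basicOpen 𝒜 f ∧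
      Proj.basicOpen 𝒜 f ≤ U := by
    obtain ⟨k, h, hk, hxh, hhU⟩ :=
      Groth.Agent.Lib.ProjTilde.Frac.exists_homog_basicOpen_le U (p y) hy
    obtain ⟨e, he, g, hg, hgy⟩ : ∃ e, 0 < e ∧ ∃ g ∈ 𝒜 e, g ∉ (p y).asHomogeneousIdeal := by
      by_contra hne
      push Not at hne
      exact (p y).not_irrelevant_le ((HomogeneousIdeal.irrelevant_le 𝒜).mpr hne)
    exact ⟨k + e, by omega, h * g, SetLike.mul_mem_graded hk hg,
      fun hh => ((p y).isPrime.mem_or_mem hh).elim hxh hgy,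
      fun z hz => hhU fun hh => hz (Ideal.mul_mem_right _ _ hh)⟩
  let V := Proj.basicOpen 𝒜 f
  obtain ⟨a, ha⟩ : ∃ a, Proj.awayToSection 𝒜 f a = (Proj 𝒜).presheaf.map (homOfLE hfU).op r :=
    (ConcreteCategory.bijective_of_isIso (Proj.basicOpenIsoAway 𝒜 f hf hd).hom).2 _
  have le : (PCone.dom φ).ι ''ᵁ (p ⁻¹ᵁ V) ≤ Proj.basicOpen ℬ (φ f) := by
    rw [Groth.Agent.S3596.preimage_basicOpen φ p hp hd hf]
    exact (PCone.dom φ).ι.image_preimage_le _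
  have h1 := app_awayToSection hp hd hf a le
  rw [ha, ← CommRingCat.comp_apply, Scheme.Hom.naturality] at h1
  have hyB : φ f ∉ y.1.asHomogeneousIdeal := (notMem_iff hp hd hf y).1 hfy
  have hyV : (y.1 : Proj ℬ) ∈ (PCone.dom φ).ι ''ᵁ (p ⁻¹ᵁ V) := ⟨y, hfy, rfl⟩
  have h2 := congrArg (fun t => ((t : (ProjectiveSpectrum.Proj.structureSheaf ℬ).1.obj
    (op ((PCone.dom φ).ι ''ᵁ (p ⁻¹ᵁ V)))).1 ⟨y.1, hyV⟩).val) h1
  refine h2.trans ?_
  have h3 : ((r : (ProjectiveSpectrum.Proj.structureSheaf 𝒜).1.obj (op U)).1 ⟨p y, hy⟩) =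
      ((Proj.awayToSection 𝒜 f a : (ProjectiveSpectrum.Proj.structureSheaf 𝒜).1.obj (op V)).1 ⟨p y, hfy⟩) := by
    rw [ha]; rfl
  rw [h3]
  obtain ⟨k, b, hb, rfl⟩ := Away.mk_surjective 𝒜 hf a
  rw [Away.map_mk]
  have hfk : f ^ k ∉ (p y).asHomogeneousIdeal := fun h => hfy ((p y).isPrime.mem_of_pow_mem k h)
  have hfk' : φ f ^ k ∉ y.1.asHomogeneousIdeal := fun h => hyB (y.1.isPrime.mem_of_pow_mem k h)
  have hfk'' : φ (f ^ k) ∉ y.1.asHomogeneousIdeal := by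
    rwa [show φ (f ^ k) = φ f ^ k from map_pow φ.toRingHom f k]
  refine Eq.trans ?_ (Eq.trans (locMap_mk hp y b (f ^ k) hfk hfk'').symm
    (congrArg (locMap hp y) (Groth.Agent.Lib.ProjTilde.QCoh.val_awayToSection hf k b hb ⟨p y, hfy⟩ hfk).symm))
  exact (Groth.Agent.Lib.ProjTilde.QCoh.val_awayToSection (φ.map_mem hf) k (φ b)
    (φ.map_mem hb) ⟨y.1, hyB⟩ hfk').trans
      (congrArg₂ Localization.mk rfl (Subtype.ext (map_pow φ.toRingHom f k).symm))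

end Groth.Agent.Lib.H70.DomMap
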