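import Groth.Agent.Lib.H70.GrBaseChange
import Groth.Agent.H81.RelProj.RelComap

set_option linter.style.haveILetI false
set_option linter.unusedSectionVars false

/-!
# The base change of sections of `M(n)~`, pushed to schemes carrying `Proj`s as open subschemes
-/

noncomputable section

universe u

open CategoryTheory AlgebraicGeometry TopologicalSpace Opposite DirectSum
open scoped HomogeneousIdeal

namespace Groth.Agent.Lib.H70.BCTransportScheme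

open Groth.Agent.Lib.H70.BCLift Groth.Agent.H81.RelProj

variable {A σ : Type u} [CommRing A] [SetLike σ A] [AddSubgroupClass σ A] {𝒜 : ℕ → σ} [GradedRing 𝒜]
  {B σ' : Type u} [CommRing B] [SetLike σ' B] [AddSubgroupClass σ' B] {ℬ : ℕ → σ'} [GradedRing ℬ]
  {M τ : Type u} [AddCommGroup M] [Module A M] [SetLike τ M] [AddSubgroupClass τ M] {ℳ : ℕ → τ}
  [SetLike.GradedSMul 𝒜 ℳ] [DirectSum.Decomposition ℳ]
  {N τ' : Type u} [AddCommGroup N] [Module B N] [SetLike τ' N] [AddSubgroupClass τ' N] {𝒩 : ℕ → τ'}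
  [SetLike.GradedSMul ℬ 𝒩] [DirectSum.Decomposition 𝒩]
  (ψ : 𝒜 →+*ᵍ ℬ) (hψ : ℬ₊ ≤ (𝒜₊).map ψ)
  (v : M →ₛₗ[ψ.toRingHom] N) (hv : ∀ (i : ℕ) (m : M), m ∈ ℳ i → v m ∈ 𝒩 i) (n : ℤ)
  {PA PB : Scheme.{u}} (g : PB ⟶ PA) (eA : Proj 𝒜 ⟶ PA) [IsOpenImmersion eA] (eB : Proj ℬ ⟶ PB)
  [IsOpenImmersion eB] (h₃ : Proj.map ψ hψ ≫ eA = eB ≫ g)

/-- If `L ≅ M(n)~` over `D₊(f)` seen in `PA`, the map to `g_* eB_* N(n)~` is a base change on sections. -/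
theorem isBC_push {L : PA.Modules} (l : L ⟶ (Scheme.Modules.pushforward eA).obj (GrMod.tilde 𝒜 ℳ n))
    (V : PA.Opens) (W : PB.Opens) (hV : V ≤ eA.opensRange) (hW : W ≤ eB.opensRange)
    (hl : Function.Bijective (l.app V)) (e : W ≤ g ⁻¹ᵁ V)
    (e₀ : eB ⁻¹ᵁ W ≤ Proj.map ψ hψ ⁻¹ᵁ (eA ⁻¹ᵁ V))
    (hbc : IsBC ((Proj.map ψ hψ).appLE (eA ⁻¹ᵁ V) (eB ⁻¹ᵁ W) e₀).hom
      (sectMap (Proj.map ψ hψ) (GrMod.comap ψ hψ v hv n) e₀)) :
    IsBC (g.appLE V W e).hom (sectMap g (l ≫ RelComap.toComp ψ hψ v hv n g eA eB h₃) e) := by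
  haveI := eA.isIso_app V hV
  haveI := eB.isIso_app W hW
  have hA := ConcreteCategory.bijective_of_isIso (eA.app V)
  have hB := ConcreteCategory.bijective_of_isIso (eB.app W)
  let EA := Equiv.ofBijective _ hA
  let EB := Equiv.ofBijective _ hB
  let EL := AddEquiv.ofBijective (l.app V).hom hl
  have hχ : ∀ z : Γ(PA, V), eB.app W (g.appLE V W e z) =
      (Proj.map ψ hψ).appLE (eA ⁻¹ᵁ V) (eB ⁻¹ᵁ W) e₀ (eA.app V z) := by
    intro z
    have h1 := congr($(Scheme.Hom.appLE_comp_appLE eB g V W (eB ⁻¹ᵁ W) e le_rfl) z)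
    have h2 := congr($(Scheme.Hom.appLE_comp_appLE (Proj.map ψ hψ) eA V (eA ⁻¹ᵁ V) (eB ⁻¹ᵁ W) le_rfl e₀) z)
    rw [Scheme.Hom.appLE_eq_app] at h1
    rw [Scheme.Hom.appLE_eq_app] at h2
    have key : ∀ (k : Proj ℬ ⟶ PA) (e' : eB ⁻¹ᵁ W ≤ k ⁻¹ᵁ V), k = Proj.map ψ hψ ≫ eA →
        k.appLE V (eB ⁻¹ᵁ W) e' z = (Proj.map ψ hψ ≫ eA).appLE V (eB ⁻¹ᵁ W) e₀ z := by
      rintro k e' rfl; rfl
    exact h1.trans ((key _ _ h₃.symm).trans h2.symm)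
  refine hbc.transport (χ' := (g.appLE V W e).hom) EA.symm EA.symm.surjective EB.symm EB.symm.surjective
    (fun a b => hB.1 ?_) (fun a b => hB.1 ?_) EL.symm.toAddMonoidHom EL.symm.surjective
    (AddMonoidHom.id _) Function.bijective_id (fun r => hB.1 ?_) (fun r m => hl.1 ?_) (fun s y => ?_)
    (fun m => ?_)
  · refine Eq.trans ?_ (map_add (eB.app W).hom _ _).symm
    exact (EB.apply_symm_apply (a + b)).trans
      (congrArg₂ (· + ·) (EB.apply_symm_apply a) (EB.apply_symm_apply b)).symm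
  · refine Eq.trans ?_ (map_mul (eB.app W).hom _ _).symm
    exact (EB.apply_symm_apply (a * b)).trans
      (congrArg₂ (· * ·) (EB.apply_symm_apply a) (EB.apply_symm_apply b)).symm
  · refine (hχ _).trans ?_
    refine Eq.trans ?_ (EB.apply_symm_apply _).symm
    exact congrArg _ (EA.apply_symm_apply r)
  · refine (EL.apply_symm_apply (r • m)).trans ?_
    refine Eq.trans ?_ (Scheme.Modules.Hom.app_smul l _ _).symm
    show r • (show Γ(GrMod.tilde 𝒜 ℳ n, eA ⁻¹ᵁ V) from m) = eA.app V (EA.symm r) • (show Γ(GrMod.tilde 𝒜 ℳ n, eA ⁻¹ᵁ V) from l.app V (EL.symm m))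
    exact (congrArg₂ (fun (a : Γ(Proj 𝒜, eA ⁻¹ᵁ V)) (b : Γ(GrMod.tilde 𝒜 ℳ n, eA ⁻¹ᵁ V)) => a • b)
      (EA.apply_symm_apply r) (EL.apply_symm_apply m)).symm
  · show s • y = eB.app W (EB.symm s) • (show Γ(GrMod.tilde ℬ 𝒩 n, eB ⁻¹ᵁ W) from y)
    exact congrArg (· • (show Γ(GrMod.tilde ℬ 𝒩 n, eB ⁻¹ᵁ W) from y)) (EB.apply_symm_apply s).symm
  · refine Subtype.ext (funext fun y => Subtype.ext ?_)
    show GrMod.locModMap ψ hψ v y.1 _ = GrMod.locModMap ψ hψ v y.1 _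
    exact congrArg (fun t : GrMod.sect 𝒜 ℳ n (op (eA ⁻¹ᵁ V)) => GrMod.locModMap ψ hψ v y.1
      (t.1 ⟨ProjectiveSpectrum.comap ψ hψ y.1, e₀ y.2⟩).1) (EL.apply_symm_apply m)

end Groth.Agent.Lib.H70.BCTransportScheme
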