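import Groth.Agent.Lib.H70.SymBC
import Groth.Agent.H81.RelProj.Exists
import Groth.Agent.H81.RelProj.BaseChange
import Groth.Agent.H81.RelProj.RelTilde
import Groth.Agent.H81.RelProj.RelTwist
import Groth.Agent.Lib.ProjQ.Map
import Groth.Agent.S8335

set_option linter.style.haveILetI false

/-!
# Base change of the projective bundle of a quasi-coherent module, with its `O(1)`
-/

noncomputable section

universe u

open CategoryTheory Limits AlgebraicGeometry Opposite TopologicalSpace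
open scoped HomogeneousIdeal

namespace Groth.Agent.Lib.H70.BundleBC

open Groth.Agent.H81.RelProj
open Groth.Agent.Lib.RelProjBasics.Basic (chartStr)

theorem map_congr {A B σ τ : Type u} [CommRing A] [SetLike σ A] [AddSubgroupClass σ A] [CommRing B] [SetLike τ B]
    [AddSubgroupClass τ B] {𝒜 : ℕ → σ} {ℬ : ℕ → τ} [GradedRing 𝒜] [GradedRing ℬ] {φ φ' : 𝒜 →+*ᵍ ℬ} (e : φ = φ')
    (h h') : Proj.map φ h = Proj.map φ' h' := by
  subst e; rfl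

section glue

variable {Y Y' P P' : Scheme.{u}} {ψ : Y' ⟶ Y} {𝒮 : RelProj.QCGrAlg Y} {𝒮' : RelProj.QCGrAlg Y'}
  {u : 𝒮.presheaf ⟶ ψ.base _* 𝒮'.presheaf}
  {φ : ∀ (U : Y.Opens) (hU : IsAffineOpen U) (U' : Y'.Opens) (hU' : IsAffineOpen U') (_ : U' ≤ ψ ⁻¹ᵁ U),
    𝒮.deg U hU →+*ᵍ 𝒮'.deg U' hU'}
  (hφ : ∀ (U : Y.Opens) (hU : IsAffineOpen U) (U' : Y'.Opens) (hU' : IsAffineOpen U') (hle : U' ≤ ψ ⁻¹ᵁ U),
    (φ U hU U' hU' hle).toRingHom =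
      ((u.app (op U) : 𝒮.presheaf.obj (op U) ⟶ 𝒮'.presheaf.obj (op (ψ ⁻¹ᵁ U))) ≫
        𝒮'.presheaf.map (homOfLE hle).op).hom)
  (hirr : ∀ (U : Y.Opens) (hU : IsAffineOpen U) (U' : Y'.Opens) (hU' : IsAffineOpen U') (hle : U' ≤ ψ ⁻¹ᵁ U),
    (𝒮'.deg U' hU')₊ ≤ ((𝒮.deg U hU)₊).map (φ U hU U' hU' hle))
  {p : P ⟶ Y}
  {chart : ∀ (U : Y.Opens) (hU : IsAffineOpen U), (((p ⁻¹ᵁ U : P.Opens) : Scheme.{u}) ≅ Proj (𝒮.deg U hU))}
  (hP : RelProj.IsRelProj 𝒮 p chart) {p' : P' ⟶ Y'}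
  {chart' : ∀ (U' : Y'.Opens) (hU' : IsAffineOpen U'), (((p' ⁻¹ᵁ U' : P'.Opens) : Scheme.{u}) ≅ Proj (𝒮'.deg U' hU'))}
  (hP' : RelProj.IsRelProj 𝒮' p' chart')

/-- The map on a chart. -/
def loc (j : SpecMap.J ψ) : Proj (𝒮'.deg j.U' j.hU') ⟶ P :=
  Proj.map (φ j.U j.hU j.U' j.hU' j.hle) (hirr j.U j.hU j.U' j.hU' j.hle) ≫ RelProj.emb p chart j.U j.hU

include hφ hP in
theorem loc_res (i n : SpecMap.J ψ) (h : RelTilde.Rel (⟨n.U, n.hU⟩ : Y.affineOpens) ⟨i.U, i.hU⟩)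
    (h' : RelTilde.Rel (⟨n.U', n.hU'⟩ : Y'.affineOpens) ⟨i.U', i.hU'⟩) :
    Proj.map (𝒮'.res i.hU' n.hU' h'.le) (RelTilde.irr 𝒮' h') ≫ loc (chart := chart) hirr i =
      loc (chart := chart) hirr n := by
  have e : (φ n.U n.hU n.U' n.hU' n.hle).comp (𝒮.res i.hU n.hU h.le) =
      (𝒮'.res i.hU' n.hU' h'.le).comp (φ i.U i.hU i.U' i.hU' i.hle) :=
    GradedRingHom.ext fun a => Groth.Agent.S8335.φ_res φ hφ n.hU i.hU n.hU' i.hU' h.le h'.le n.hle i.hle a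
  rw [loc, loc, ← RelTilde.map_emb hP h, ← Category.assoc, ← Category.assoc, ← Proj.map_comp, ← Proj.map_comp]
  congr 1
  exact map_congr e.symm _ _

include hφ hP hP' in
theorem exists_glue : ∃ g : P' ⟶ P, ∀ (U : Y.Opens) (hU : IsAffineOpen U) (U' : Y'.Opens) (hU' : IsAffineOpen U')
    (hle : U' ≤ ψ ⁻¹ᵁ U), (p' ⁻¹ᵁ U').ι ≫ g =
      (chart' U' hU').hom ≫ Proj.map (φ U hU U' hU' hle) (hirr U hU U' hU' hle) ≫ RelProj.emb p chart U hU := by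
  suffices H : ∃! g : P' ⟶ P, ∀ j : SpecMap.J ψ, RelProj.emb p' chart' j.U' j.hU' ≫ g = loc (chart := chart) hirr j by
    obtain ⟨g, hg, -⟩ := H
    refine ⟨g, fun U hU U' hU' hle => ?_⟩
    have h : RelProj.emb p' chart' U' hU' ≫ g = loc (chart := chart) hirr ⟨U, hU, U', hU', hle⟩ :=
      hg ⟨U, hU, U', hU', hle⟩
    rw [← cancel_epi (chart' U' hU').inv, Iso.inv_hom_id_assoc, ← Category.assoc]
    exact h
  refine ProjQ.existsUnique_glue (fun j : SpecMap.J ψ => RelProj.emb p' chart' j.U' j.hU')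
    (loc (chart := chart) hirr) (fun x => ?_) fun i j z w hzw => ?_
  · obtain ⟨j, hj⟩ := SpecMap.exists_J ψ (p' x)
    exact ⟨j, (RelTilde.opensRange_emb p' chart' j.U' j.hU').ge hj⟩
  · let x := RelProj.emb p' chart' i.U' i.hU' z
    have hi : p' x ∈ i.U' := (RelTilde.opensRange_emb p' chart' i.U' i.hU').le (Set.mem_range_self z)
    have hj : p' x ∈ j.U' := by
      refine (RelTilde.opensRange_emb p' chart' j.U' j.hU').le ?_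
      rw [show x = _ from hzw]
      exact Set.mem_range_self w
    obtain ⟨r, s, e, hyr⟩ := exists_basicOpen_le_affine_inter i.hU j.hU (ψ (p' x)) ⟨i.hle hi, j.hle hj⟩
    obtain ⟨r', s', e', hxr, hle⟩ := SpecMap.exists_common i.hU' j.hU' (ψ ⁻¹ᵁ Y.basicOpen r) hi hj hyr
    let n : SpecMap.J ψ := ⟨Y.basicOpen r, i.hU.basicOpen r, Y'.basicOpen r', i.hU'.basicOpen r', hle⟩
    have h1 : RelTilde.Rel (⟨n.U', n.hU'⟩ : Y'.affineOpens) ⟨i.U', i.hU'⟩ := ⟨r', rfl⟩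
    have h2 : RelTilde.Rel (⟨n.U', n.hU'⟩ : Y'.affineOpens) ⟨j.U', j.hU'⟩ := ⟨s', e'.symm⟩
    exact ⟨n, Proj.map (𝒮'.res i.hU' n.hU' h1.le) (RelTilde.irr 𝒮' h1),
      Proj.map (𝒮'.res j.hU' n.hU' h2.le) (RelTilde.irr 𝒮' h2),
      (RelTilde.opensRange_emb p' chart' n.U' n.hU').ge hxr, RelTilde.map_emb hP' h1,
      RelTilde.map_emb hP' h2, loc_res hφ hirr hP i n ⟨r, rfl⟩ h1, loc_res hφ hirr hP j n ⟨s, e.symm⟩ h2⟩

end glue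

variable {Y Y' : Scheme.{u}} (ψ : Y' ⟶ Y) {E : Y.Modules} [E.IsQuasicoherent] {𝒮 : RelProj.QCGrAlg Y}
  {j : E ⟶ 𝒮.toModule} (hj : RelProj.IsGrSymAlg E 𝒮 j) {P : Scheme.{u}} {p : P ⟶ Y}
  {chart : ∀ (U : Y.Opens) (hU : IsAffineOpen U), (((p ⁻¹ᵁ U : P.Opens) : Scheme.{u}) ≅ Proj (𝒮.deg U hU))}
  (hP : RelProj.IsRelProj 𝒮 p chart) {O1 : P.Modules}
  {lam : ∀ (U : Y.Opens) (hU : IsAffineOpen U),
    O1 ⟶ (Scheme.Modules.pushforward (RelProj.emb p chart U hU)).obj (GrTwist.twist (𝒮.deg U hU) 1)}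
  (hO : RelProj.IsRelTwist 𝒮 p chart 1 O1 lam)

include hj hP hO in
/-- `P(ψ^*E)` is the base change of `P(E)`, and its `O(1)` the inverse image of `O(1)`. -/
theorem exists_bc : ∃ (E' : Y'.Modules) (_ : Coh.IsQCoh E') (𝒯 : RelProj.QCGrAlg Y') (jT : E' ⟶ 𝒯.toModule)
    (_ : RelProj.IsGrSymAlg E' 𝒯 jT) (P' : Scheme.{u}) (p' : P' ⟶ Y')
    (chart' : ∀ (U : Y'.Opens) (hU : IsAffineOpen U), (((p' ⁻¹ᵁ U : P'.Opens) : Scheme.{u}) ≅ Proj (𝒯.deg U hU)))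
    (_ : RelProj.IsRelProj 𝒯 p' chart') (O1' : P'.Modules)
    (lam' : ∀ (U : Y'.Opens) (hU : IsAffineOpen U),
      O1' ⟶ (Scheme.Modules.pushforward (RelProj.emb p' chart' U hU)).obj (GrTwist.twist (𝒯.deg U hU) 1))
    (_ : RelProj.IsRelTwist 𝒯 p' chart' 1 O1' lam') (g : P' ⟶ P),
    IsPullback g p' p ψ ∧ Nonempty ((Scheme.Modules.pullback g).obj O1 ≅ O1') := by
  let E' := (Scheme.Modules.pullback ψ).obj E
  let 𝒯 := SymAlg.Exists.grAlg E'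
  have hT : RelProj.IsGrSymAlg E' 𝒯 (SymAlg.Exists.jmap E') := SymAlg.Exists.isGrSymAlg E'
  obtain ⟨u, hu₁, hu₂⟩ := SymBC.exists_u hj ψ (𝒯 := 𝒯) (jT := SymAlg.Exists.jmap E')
  let φ : ∀ (U : Y.Opens) (hU : IsAffineOpen U) (U' : Y'.Opens) (hU' : IsAffineOpen U') (_ : U' ≤ ψ ⁻¹ᵁ U),
      𝒮.deg U hU →+*ᵍ 𝒯.deg U' hU' := fun U hU U' hU' hle =>
    { toRingHom := (SymBC.comp ψ u U U' hle).hom
      map_mem := fun {d x} hx => SymBC.comp_mem hj ψ hT hu₁ hu₂ U hU U' hU' hle d x hx }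
  have hirr : ∀ (U : Y.Opens) (hU : IsAffineOpen U) (U' : Y'.Opens) (hU' : IsAffineOpen U') (hle : U' ≤ ψ ⁻¹ᵁ U),
      (𝒯.deg U' hU')₊ ≤ ((𝒮.deg U hU)₊).map (φ U hU U' hU' hle) := fun U hU U' hU' hle =>
    SymBC.irrelevant_le hj ψ hT hu₂ U hU U' hU' hle
  have hpo := SymBC.isPushout hj ψ hT hu₁ hu₂
  obtain ⟨g, hg⟩ := exists_glue (φ := φ) (fun _ _ _ _ _ => rfl) hirr hP (Exists.isRelProj 𝒯)
  obtain ⟨O1', lam', hO'⟩ := RelTwist.exists_isRelTwist (Exists.isRelProj 𝒯) 1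
  exact ⟨E', inferInstance, 𝒯, _, hT, _, _, _, Exists.isRelProj 𝒯, O1', lam', hO', g,
    BaseChange.isPullback ψ (φ := φ) (fun _ _ _ _ _ => rfl) hpo hirr hP (Exists.isRelProj 𝒯) hg,
    Groth.Agent.S8335.result ψ 𝒮 𝒯 u hu₁ φ (fun _ _ _ _ _ => rfl) hpo hirr p chart hP _ _
      (Exists.isRelProj 𝒯) g hg 1 O1 lam hO O1' lam' hO'⟩

end Groth.Agent.Lib.H70.BundleBC
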