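import Groth.Prelude.Def_RelProj2
import Groth.Agent.Lib.SymAlg.Main
import Groth.Agent.Lib.SymAlg.Exists
import Groth.Agent.Lib.SymAlg.Unique
import Groth.Agent.Lib.SymAlg.Gen
import Groth.Agent.Lib.QCAlgSub.Basic

set_option linter.style.haveILetI false

/-!
# An algebra generated in degree one as a quotient of a symmetric algebra
-/

noncomputable section

universe u

open CategoryTheory AlgebraicGeometry Opposite TopologicalSpace
open scoped HomogeneousIdeal

namespace Groth.Agent.Lib.H70.DegOne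

variable {Y : Scheme.{u}} (𝒮 : RelProj.QCGrAlg Y)

/-- The projection of the algebra to its part of degree one. -/
theorem exists_proj : ∃ π : 𝒮.toModule ⟶ 𝒮.toModule, ∀ (U : Y.Opens) (hU : IsAffineOpen U)
    (x : 𝒮.presheaf.obj (op U)), π.app U x = GradedRing.proj (𝒮.deg U hU) 1 x := by
  haveI : 𝒮.toModule.IsQuasicoherent := QCAlgSub.Basic.isQuasicoherent_toModule 𝒮.toQCAlg
  obtain ⟨π, hπ⟩ := SymAlg.Main.exists_hom (S := Y) 𝒮.toModule 𝒮.toQCAlg
    (fun U => (GradedRing.proj (𝒮.deg U.1 U.2) 1 : 𝒮.presheaf.obj (op U.1) →+ 𝒮.presheaf.obj (op U.1)))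
    (fun {U V} i m => by
      let r : 𝒮.deg U.1 U.2 →+*ᵍ 𝒮.deg V.1 V.2 := 𝒮.res U.2 V.2 (Scheme.AffineZariskiSite.toOpens_mono i.le)
      let x : 𝒮.presheaf.obj (op U.1) := m
      show GradedRing.proj (𝒮.deg V.1 V.2) 1 (r x) = r (GradedRing.proj (𝒮.deg U.1 U.2) 1 x)
      simp only [GradedRing.proj_apply]
      exact (GradedRingHom.map_directSumDecompose (𝒮.deg U.1 U.2) (𝒮.deg V.1 V.2) r).symm)
    (fun U r m => DirectSum.coe_decompose_mul_of_left_mem_zero (𝒮.deg U.1 U.2) (𝒮.str_mem U.1 U.2 r))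
  exact ⟨π, fun U hU x => hπ ⟨U, hU⟩ x⟩

/-- A quotient of a graded symmetric algebra in degree one. -/
theorem exists_sym : ∃ (E : Y.Modules) (_ : Coh.IsQCoh E) (u : E ⟶ 𝒮.toModule)
    (_ : ∀ (U : Y.Opens) (hU : IsAffineOpen U) (x : Γ(E, U)), u.app U x ∈ 𝒮.deg U hU 1)
    (_ : ∀ (U : Y.Opens) (hU : IsAffineOpen U) (s : 𝒮.presheaf.obj (op U)), s ∈ 𝒮.deg U hU 1 →
      ∃ x : Γ(E, U), u.app U x = s)
    (𝒯 : RelProj.QCGrAlg Y) (j : E ⟶ 𝒯.toModule) (_ : RelProj.IsGrSymAlg E 𝒯 j)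
    (ub : 𝒯.toQCAlg ⟶ 𝒮.toQCAlg), j ≫ RelSpec.QCAlg.Hom.toModuleMap ub = u ∧ RelProj.IsGradedHom ub := by
  haveI : 𝒮.toModule.IsQuasicoherent := QCAlgSub.Basic.isQuasicoherent_toModule 𝒮.toQCAlg
  obtain ⟨π, hπ⟩ := exists_proj 𝒮
  let 𝒯 := SymAlg.Exists.grAlg 𝒮.toModule
  let j : 𝒮.toModule ⟶ 𝒯.toModule := SymAlg.Exists.jmap 𝒮.toModule
  have hT : RelProj.IsGrSymAlg 𝒮.toModule 𝒯 j := SymAlg.Exists.isGrSymAlg 𝒮.toModule
  obtain ⟨ub, hub, -⟩ := hT.1 𝒮.toQCAlg π
  refine ⟨𝒮.toModule, inferInstance, π, fun U hU x => ?_, fun U hU s hs => ⟨s, ?_⟩, 𝒯, j, hT, ub, hub, ?_⟩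
  · rw [hπ U hU]
    exact SetLike.coe_mem _
  · rw [hπ U hU]
    exact DirectSum.decompose_of_mem_same (𝒮.deg U hU) hs
  · intro U hU d x hx
    letI := SymAlg.Unique.algInst 𝒯.toQCAlg U
    rw [SymAlg.Unique.deg_eq hT hU] at hx
    induction hx using Submodule.pow_induction_on_left' with
    | algebraMap r =>
      show (ub.hom.app (op U)).hom ((𝒯.str.app (op U)).hom r) ∈ _
      rw [show (ub.hom.app (op U)).hom ((𝒯.str.app (op U)).hom r) = (𝒮.str.app (op U)).hom r from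
        congr(($(ub.comm)).app (op U) r)]
      exact 𝒮.str_mem U hU r
    | add x y i hx hy ihx ihy => rw [map_add]; exact add_mem ihx ihy
    | mem_mul m hm i x hx ih =>
      obtain ⟨e, rfl⟩ := hm
      rw [map_mul, Nat.succ_eq_add_one, add_comm i 1]
      refine SetLike.mul_mem_graded ?_ ih
      have h2 := congrArg (fun f : 𝒮.toModule ⟶ 𝒮.toModule => f.app U e) hub
      show (ub.hom.app (op U)).hom (j.app U e) ∈ _
      rw [show (ub.hom.app (op U)).hom (j.app U e) = π.app U e from h2, hπ U hU]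
      exact SetLike.coe_mem _

/-- The irrelevant ideal of an algebra generated in degree one comes from degree one. -/
theorem irrelevant_le {U : Y.Opens} (hU : IsAffineOpen U) (h : 𝒮.IsGenDegOne) (I : Ideal (𝒮.presheaf.obj (op U)))
    (h1 : ∀ s ∈ 𝒮.deg U hU 1, s ∈ I) : (𝒮.deg U hU)₊.toIdeal ≤ I := by
  intro x hx
  let P := RingHom.eqLocus (Ideal.Quotient.mk I) ((Ideal.Quotient.mk I).comp (GradedRing.projZeroRingHom (𝒮.deg U hU)))
  have hP : x ∈ P := by
    have : Subring.closure ((𝒮.deg U hU 0 : Set (𝒮.presheaf.obj (op U))) ∪ (𝒮.deg U hU 1 : Set _)) ≤ P := by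
      refine Subring.closure_le.2 (Set.union_subset (fun a ha => ?_) fun a ha => ?_)
      · exact congrArg (Ideal.Quotient.mk I) (DirectSum.decompose_of_mem_same _ ha).symm
      · show Ideal.Quotient.mk I a = Ideal.Quotient.mk I (GradedRing.projZeroRingHom (𝒮.deg U hU) a)
        rw [GradedRing.projZeroRingHom_apply, DirectSum.decompose_of_mem_ne _ ha one_ne_zero, map_zero,
          Ideal.Quotient.eq_zero_iff_mem]
        exact h1 a ha
    exact this (h U hU ▸ Subring.mem_top x)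
  have h0 : GradedRing.projZeroRingHom (𝒮.deg U hU) x = 0 := hx
  exact Ideal.Quotient.eq_zero_iff_mem.1 (Eq.trans hP (by
    show Ideal.Quotient.mk I (GradedRing.projZeroRingHom (𝒮.deg U hU) x) = 0
    rw [h0, map_zero]))

end Groth.Agent.Lib.H70.DegOne
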