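import Groth.Agent.Lib.SymAlg.Exists
import Groth.Agent.Lib.SymAlg.Unique
import Groth.Agent.Lib.SymAlg.Gen
import Groth.Agent.Lib.ZarCoh.FlatBC.PullbackSections

set_option linter.style.haveILetI false

/-!
# Base change of symmetric algebras of quasi-coherent modules
-/

noncomputable section

universe u

open CategoryTheory Limits AlgebraicGeometry Opposite TopologicalSpace
open scoped HomogeneousIdeal TensorProduct
open Groth.Agent.Lib

namespace Groth.Agent.Lib.H70.SymBC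

open SymAlg.Unique _root_.ZarCoh.FlatBC.PullbackSections

/-- A module map to an algebra, on sections. -/
abbrev jv {X : Scheme.{u}} {F : X.Modules} {𝒜 : RelProj.QCGrAlg X} (k : F ⟶ 𝒜.toModule) (U : X.Opens) :
    Γ(F, U) →+ 𝒜.presheaf.obj (op U) :=
  (k.app U).hom

theorem jv_smul {X : Scheme.{u}} {F : X.Modules} {𝒜 : RelProj.QCGrAlg X} (k : F ⟶ 𝒜.toModule) (U : X.Opens)
    (r : Γ(X, U)) (e : Γ(F, U)) : jv k U (r • e) = (𝒜.str.app (op U)).hom r * jv k U e :=
  Scheme.Modules.Hom.app_smul k r e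

theorem jv_res {X : Scheme.{u}} {F : X.Modules} {𝒜 : RelProj.QCGrAlg X} (k : F ⟶ 𝒜.toModule) {U V : X.Opens}
    (h : V ≤ U) (e : Γ(F, U)) :
    (𝒜.presheaf.map (homOfLE h).op).hom (jv k U e) = jv k V (QCoh.Localizing.res F h e) :=
  QCoh.Localizing.res_app k h e

theorem res_pbRes {X Z : Scheme.{u}} (f : X ⟶ Z) (M : Z.Modules) {U : Z.Opens} {V V' : X.Opens}
    (e : V ≤ f ⁻¹ᵁ U) (i : V' ≤ V) (m : Γ(M, U)) :
    QCoh.Localizing.res ((Scheme.Modules.pullback f).obj M) i (pbRes f M e m) = pbRes f M (i.trans e) m := by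
  show ((Scheme.Modules.pullback f).obj M).presheaf.map (homOfLE i).op
    (((Scheme.Modules.pullback f).obj M).presheaf.map (homOfLE e).op _) = _
  rw [← CategoryTheory.comp_apply, ← Functor.map_comp]
  rfl

theorem pbRes_res {X Z : Scheme.{u}} (f : X ⟶ Z) (M : Z.Modules) {U U₀ : Z.Opens} {V : X.Opens}
    (h : U₀ ≤ U) (e : V ≤ f ⁻¹ᵁ U₀) (m : Γ(M, U)) :
    pbRes f M e (QCoh.Localizing.res M h m) = pbRes f M (e.trans (f.preimage_mono h)) m := by
  let η := (Scheme.Modules.pullbackPushforwardAdjunction f).unit.app M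
  have h1 : η.app U₀ (M.presheaf.map (homOfLE h).op m) = ((Scheme.Modules.pullback f).obj M).presheaf.map
      (homOfLE (f.preimage_mono h)).op (η.app U m) :=
    η.mapPresheaf.naturality_apply (homOfLE h).op m
  show ((Scheme.Modules.pullback f).obj M).presheaf.map (homOfLE e).op (η.app U₀ _) =
    ((Scheme.Modules.pullback f).obj M).presheaf.map (homOfLE _).op (η.app U m)
  rw [h1, ← CategoryTheory.comp_apply, ← Functor.map_comp]
  rfl

variable {Y : Scheme.{u}} {E : Y.Modules} [E.IsQuasicoherent] {𝒮 : RelProj.QCGrAlg Y} {j : E ⟶ 𝒮.toModule}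
  (hj : RelProj.IsGrSymAlg E 𝒮 j)

include hj in
theorem hom_ext {U : Y.Opens} (hU : IsAffineOpen U) {R : Type u} [CommRing R]
    {F G : 𝒮.presheaf.obj (op U) →+* R}
    (h₁ : ∀ r, F ((𝒮.str.app (op U)).hom r) = G ((𝒮.str.app (op U)).hom r))
    (h₂ : ∀ e, F (jv j U e) = G (jv j U e)) : F = G := by
  letI := algInst 𝒮.toQCAlg U
  letI : _root_.Algebra Γ(Y, U) R := (F.comp (𝒮.str.app (op U)).hom).toAlgebra
  let F' : 𝒮.presheaf.obj (op U) →ₐ[Γ(Y, U)] R := { F with commutes' := fun r => rfl }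
  let G' : 𝒮.presheaf.obj (op U) →ₐ[Γ(Y, U)] R := { G with commutes' := fun r => (h₁ r).symm }
  have : F' = G' := (isSymmetricAlgebra hj.1 hU).algHom_ext (LinearMap.ext h₂)
  exact congrArg AlgHom.toRingHom this

include hj in
theorem exists_ext {U : Y.Opens} (hU : IsAffineOpen U) {R : Type u} [CommRing R] (a : Γ(Y, U) →+* R)
    (b : Γ(E, U) →+ R) (hb : ∀ r e, b (r • e) = a r * b e) :
    ∃ F : 𝒮.presheaf.obj (op U) →+* R,
      (∀ r, F ((𝒮.str.app (op U)).hom r) = a r) ∧ ∀ e, F (jv j U e) = b e := by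
  letI := algInst 𝒮.toQCAlg U
  letI : _root_.Algebra Γ(Y, U) R := a.toAlgebra
  let b' : Γ(E, U) →ₗ[Γ(Y, U)] R :=
    { toFun := b, map_add' := b.map_add, map_smul' := fun r e => hb r e }
  refine ⟨((isSymmetricAlgebra hj.1 hU).lift b').toRingHom, fun r => ?_, fun e => ?_⟩
  · exact AlgHom.commutes _ r
  · exact (isSymmetricAlgebra hj.1 hU).lift_eq b' e

variable {Y' : Scheme.{u}} (ψ : Y' ⟶ Y) {𝒯 : RelProj.QCGrAlg Y'}
  {jT : (Scheme.Modules.pullback ψ).obj E ⟶ 𝒯.toModule}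
  (hT : RelProj.IsGrSymAlg ((Scheme.Modules.pullback ψ).obj E) 𝒯 jT)

instance : ((Scheme.Modules.pullback ψ).obj E).IsQuasicoherent := QCoh.Pullback.isQCoh_pullback ψ E

include hj in
theorem exists_aff (U : Y.Opens) (hU : IsAffineOpen U) :
    ∃ F : 𝒮.presheaf.obj (op U) →+* 𝒯.presheaf.obj (op (ψ ⁻¹ᵁ U)),
      (∀ r, F ((𝒮.str.app (op U)).hom r) = (𝒯.str.app (op (ψ ⁻¹ᵁ U))).hom ((ψ.app U).hom r)) ∧
        ∀ e, F (jv j U e) = jv jT (ψ ⁻¹ᵁ U) (pbRes ψ E le_rfl e) := by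
  refine exists_ext hj hU ((𝒯.str.app (op (ψ ⁻¹ᵁ U))).hom.comp (ψ.app U).hom)
    (AddMonoidHom.mk' (fun e => jv jT (ψ ⁻¹ᵁ U) (pbRes ψ E le_rfl e))
      fun x y => by rw [map_add, map_add]) fun r e => ?_
  show jv jT (ψ ⁻¹ᵁ U) (pbRes ψ E le_rfl (r • e)) = _
  rw [pbRes_smul, Scheme.Hom.appLE_eq_app]
  exact jv_smul jT _ _ _

include hj in
/-- `𝒮 → ψ_* 𝒯`. -/
theorem exists_u : ∃ u : 𝒮.presheaf ⟶ ψ.base _* 𝒯.presheaf,
    𝒮.str ≫ u = ψ.c ≫ (TopCat.Presheaf.pushforward CommRingCat.{u} ψ.base).map 𝒯.str ∧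
      ∀ (U : Y.Opens), IsAffineOpen U → ∀ e : Γ(E, U),
        (u.app (op U)).hom (jv j U e) = jv jT (ψ ⁻¹ᵁ U) (pbRes ψ E le_rfl e) := by
  choose F hF₁ hF₂ using fun (U : Y.AffineZariskiSite) => exists_aff hj ψ (jT := jT) U.1 U.2
  let T : TopCat.Sheaf CommRingCat.{u} Y.carrier :=
    ⟨ψ.base _* 𝒯.presheaf, TopCat.Sheaf.pushforward_sheaf_of_sheaf ψ.base 𝒯.isSheaf⟩
  let site : (Scheme.AffineZariskiSite.toOpensFunctor Y).op ⋙ 𝒮.presheaf ⟶
      (Scheme.AffineZariskiSite.toOpensFunctor Y).op ⋙ T.1 :=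
    { app := fun U => CommRingCat.ofHom (F U.unop)
      naturality := fun U V i => by
        refine CommRingCat.hom_ext (hom_ext hj U.unop.2 (fun r => ?_) fun e => ?_)
        · show F V.unop ((𝒮.presheaf.map (homOfLE _).op).hom ((𝒮.str.app (op U.unop.1)).hom r)) =
            (𝒯.presheaf.map _).hom (F U.unop ((𝒮.str.app (op U.unop.1)).hom r))
          rw [hF₁]
          refine (congrArg (F V.unop) (congr($(𝒮.str.naturality (homOfLE _).op) r)).symm).trans ?_
          refine (hF₁ V.unop _).trans ?_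
          refine Eq.trans ?_ (congr($(𝒯.str.naturality _) ((ψ.app U.unop.1).hom r)))
          exact congrArg _ (congr($(ψ.naturality _) r))
        · show F V.unop ((𝒮.presheaf.map (homOfLE _).op).hom (jv j U.unop.1 e)) =
            (𝒯.presheaf.map _).hom (F U.unop (jv j U.unop.1 e))
          rw [hF₂]
          refine (congrArg (F V.unop) (jv_res j _ e)).trans ?_
          refine (hF₂ V.unop _).trans ?_
          refine Eq.trans ?_ (jv_res jT
            (ψ.preimage_mono (leOfHom ((Scheme.AffineZariskiSite.toOpensFunctor Y).map i.unop)))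
            (pbRes ψ E le_rfl e)).symm
          rw [pbRes_res, res_pbRes]
          rfl }
  let u := Functor.IsCoverDense.restrictHomEquivHom (G := Scheme.AffineZariskiSite.toOpensFunctor Y)
    (K := Opens.grothendieckTopology Y) (ℱ := 𝒮.presheaf) (ℱ' := T) site
  have hu : ∀ (U : Y.Opens) (hU : IsAffineOpen U), u.app (op U) = CommRingCat.ofHom (F ⟨U, hU⟩) := fun U hU =>
    NatTrans.congr_app ((Functor.IsCoverDense.restrictHomEquivHom (G := Scheme.AffineZariskiSite.toOpensFunctor Y)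
      (K := Opens.grothendieckTopology Y) (ℱ := 𝒮.presheaf) (ℱ' := T)).symm_apply_apply site) (op ⟨U, hU⟩)
  refine ⟨u, ?_, fun U hU e => ?_⟩
  · apply (Functor.IsCoverDense.restrictHomEquivHom (G := Scheme.AffineZariskiSite.toOpensFunctor Y)
      (K := Opens.grothendieckTopology Y) (ℱ := Y.presheaf) (ℱ' := T)).symm.injective
    ext U : 2
    refine CommRingCat.hom_ext (RingHom.ext fun r => ?_)
    show (u.app (op U.unop.1)).hom ((𝒮.str.app (op U.unop.1)).hom r) = _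
    rw [hu U.unop.1 U.unop.2]
    exact hF₁ U.unop r
  · rw [hu U hU]
    exact hF₂ ⟨U, hU⟩ e

variable {u : 𝒮.presheaf ⟶ ψ.base _* 𝒯.presheaf}
  (hu₁ : 𝒮.str ≫ u = ψ.c ≫ (TopCat.Presheaf.pushforward CommRingCat.{u} ψ.base).map 𝒯.str)
  (hu₂ : ∀ (U : Y.Opens), IsAffineOpen U → ∀ e : Γ(E, U),
    (u.app (op U)).hom (jv j U e) = jv jT (ψ ⁻¹ᵁ U) (pbRes ψ E le_rfl e))

/-- The component `𝒮(U) → 𝒯(U')`. -/
abbrev comp (u : 𝒮.presheaf ⟶ ψ.base _* 𝒯.presheaf) (U : Y.Opens) (U' : Y'.Opens) (hle : U' ≤ ψ ⁻¹ᵁ U) :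
    𝒮.presheaf.obj (op U) ⟶ 𝒯.presheaf.obj (op U') :=
  (u.app (op U) : 𝒮.presheaf.obj (op U) ⟶ 𝒯.presheaf.obj (op (ψ ⁻¹ᵁ U))) ≫ 𝒯.presheaf.map (homOfLE hle).op

include hu₁ in
theorem comp_str (U : Y.Opens) (U' : Y'.Opens) (hle : U' ≤ ψ ⁻¹ᵁ U) (r : Γ(Y, U)) :
    (comp ψ u U U' hle).hom ((𝒮.str.app (op U)).hom r) = (𝒯.str.app (op U')).hom ((ψ.appLE U U' hle).hom r) := by
  have h1 := congr(($hu₁).app (op U) r)
  refine (congrArg (fun t => (𝒯.presheaf.map (homOfLE hle).op).hom t) h1).trans ?_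
  exact congr($(𝒯.str.naturality (homOfLE hle).op) ((ψ.app U).hom r)).symm

omit [E.IsQuasicoherent] in
include hu₂ in
theorem comp_j (U : Y.Opens) (hU : IsAffineOpen U) (U' : Y'.Opens) (hle : U' ≤ ψ ⁻¹ᵁ U) (e : Γ(E, U)) :
    (comp ψ u U U' hle).hom (jv j U e) = jv jT U' (pbRes ψ E hle e) := by
  refine (congrArg (fun t => (𝒯.presheaf.map (homOfLE hle).op).hom t) (hu₂ U hU e)).trans ?_
  refine (jv_res jT hle (pbRes ψ E le_rfl e)).trans (congrArg _ ?_)
  exact res_pbRes ψ E le_rfl hle e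

include hj hT hu₁ hu₂ in
theorem comp_mem (U : Y.Opens) (hU : IsAffineOpen U) (U' : Y'.Opens) (hU' : IsAffineOpen U') (hle : U' ≤ ψ ⁻¹ᵁ U)
    (d : ℕ) (x : 𝒮.presheaf.obj (op U)) (hx : x ∈ 𝒮.deg U hU d) :
    (comp ψ u U U' hle).hom x ∈ 𝒯.deg U' hU' d := by
  letI := algInst 𝒮.toQCAlg U
  rw [SymAlg.Unique.deg_eq hj hU] at hx
  induction hx using Submodule.pow_induction_on_left' with
  | algebraMap r =>
    show (comp ψ u U U' hle).hom ((𝒮.str.app (op U)).hom r) ∈ _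
    rw [comp_str ψ hu₁]
    exact 𝒯.str_mem U' hU' _
  | add x y i hx hy ihx ihy => rw [map_add]; exact add_mem ihx ihy
  | mem_mul m hm i x hx ih =>
    obtain ⟨e, rfl⟩ := hm
    rw [map_mul, Nat.succ_eq_add_one, add_comm i 1]
    refine SetLike.mul_mem_graded ?_ ih
    show (comp ψ u U U' hle).hom (jv j U e) ∈ _
    rw [comp_j ψ hu₂ U hU]
    exact hT.2 U' hU' _

include hj hT hu₁ hu₂ in
/-- Over affines the square is a pushout. -/
theorem isPushout (U : Y.Opens) (hU : IsAffineOpen U) (U' : Y'.Opens) (hU' : IsAffineOpen U') (hle : U' ≤ ψ ⁻¹ᵁ U) :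
    IsPushout (ψ.appLE U U' hle) (𝒮.str.app (op U)) (𝒯.str.app (op U')) (comp ψ u U U' hle) := by
  have w : ψ.appLE U U' hle ≫ 𝒯.str.app (op U') = 𝒮.str.app (op U) ≫ comp ψ u U U' hle :=
    CommRingCat.hom_ext (RingHom.ext fun r => (comp_str ψ hu₁ U U' hle r).symm)
  letI := (ψ.appLE U U' hle).hom.toAlgebra
  have hb := bijective_pbTensor ψ E hU hU' hle
  refine ⟨⟨w⟩, ⟨PushoutCocone.isColimitAux' _ fun c => ?_⟩⟩
  let a : Γ(Y', U') →+* c.pt := c.inl.hom
  let b : 𝒮.presheaf.obj (op U) →+* c.pt := c.inr.hom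
  have hc : ∀ r, a ((ψ.appLE U U' hle).hom r) = b ((𝒮.str.app (op U)).hom r) := fun r =>
    congr($(c.condition) r)
  letI : Module Γ(Y', U') c.pt := Module.compHom _ a
  let t : Γ(Y', U') ⊗[Γ(Y, U)] Γ(E, U) →+ c.pt := TensorProduct.liftAddHom
    (AddMonoidHom.mk' (fun s => AddMonoidHom.mk' (fun e => a s * b (jv j U e))
      (fun x y => by rw [map_add, map_add, mul_add]))
      (fun x y => AddMonoidHom.ext fun e => by
        show a (x + y) * b (jv j U e) = _
        rw [map_add, add_mul]; rfl))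
    (fun r s e => by
      show a (r • s) * b (jv j U e) = a s * b (jv j U (r • e))
      rw [jv_smul, map_mul, Algebra.smul_def, map_mul, ← hc, RingHom.algebraMap_toAlgebra]
      ring)
  have ht : ∀ (s : Γ(Y', U')) (z : Γ(Y', U') ⊗[Γ(Y, U)] Γ(E, U)), t (s • z) = a s * t z := by
    intro s z
    induction z using TensorProduct.induction_on with
    | zero => rw [smul_zero, map_zero, mul_zero]
    | tmul s' e =>
      rw [TensorProduct.smul_tmul']
      show a (s * s') * b (jv j U e) = a s * (a s' * b (jv j U e))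
      rw [map_mul, mul_assoc]
    | add x y hx hy => rw [smul_add, map_add, map_add, hx, hy, mul_add]
  let eqv := LinearEquiv.ofBijective (pbTensor ψ E hle) hb
  let bT : Γ((Scheme.Modules.pullback ψ).obj E, U') →+ c.pt := t.comp eqv.symm.toLinearMap.toAddMonoidHom
  have hex := exists_ext hT hU' a bT fun s x => by
    show t (eqv.symm (s • x)) = a s * t (eqv.symm x)
    rw [map_smul, ht]
  obtain ⟨F, hF₁, hF₂⟩ := Classical.indefiniteDescription _ hex
  have hFb : ∀ e, F (jv jT U' (pbRes ψ E hle e)) = b (jv j U e) := fun e => by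
    rw [hF₂]
    show t (eqv.symm _) = _
    have h1 : eqv.symm (pbRes ψ E hle e) = (1 : Γ(Y', U')) ⊗ₜ e := by
      rw [LinearEquiv.symm_apply_eq]
      exact ((pbTensor_tmul ψ E hle 1 e).trans (one_smul _ _)).symm
    rw [h1]
    show a 1 * b (jv j U e) = _
    rw [map_one, one_mul]
  refine ⟨CommRingCat.ofHom F, CommRingCat.hom_ext (RingHom.ext hF₁), ?_, fun {m} hm₁ hm₂ => ?_⟩
  · refine CommRingCat.hom_ext (hom_ext hj hU (fun r => ?_) fun e => ?_)
    · show F ((comp ψ u U U' hle).hom ((𝒮.str.app (op U)).hom r)) = b _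
      rw [comp_str ψ hu₁, hF₁, hc]
    · show F ((comp ψ u U U' hle).hom (jv j U e)) = b _
      rw [comp_j ψ hu₂ U hU, hFb]
  · refine CommRingCat.hom_ext (hom_ext hT hU' (fun r => ?_) fun x => ?_)
    · exact (congr($hm₁ r)).trans (hF₁ r).symm
    · obtain ⟨z, rfl⟩ := hb.2 x
      let mh : 𝒯.presheaf.obj (op U') →+* c.pt := m.hom
      show mh (jv jT U' (pbTensor ψ E hle z)) = F (jv jT U' (pbTensor ψ E hle z))
      induction z using TensorProduct.induction_on with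
      | zero => rw [map_zero, map_zero, map_zero, map_zero]
      | tmul s e =>
        rw [pbTensor_tmul, jv_smul jT, map_mul, map_mul]
        refine congrArg₂ (· * ·) ((congr($hm₁ s)).trans (hF₁ s).symm) ?_
        rw [hFb, ← comp_j ψ hu₂ U hU]
        exact congr($hm₂ (jv j U e))
      | add x y hx hy => rw [map_add, map_add, map_add, map_add, hx, hy]

include hj hT hu₂ in
/-- The irrelevant ideal of `𝒯(U')` comes from `𝒮(U)`. -/
theorem irrelevant_le (U : Y.Opens) (hU : IsAffineOpen U) (U' : Y'.Opens) (hU' : IsAffineOpen U') (hle : U' ≤ ψ ⁻¹ᵁ U) :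
    ((𝒯.deg U' hU')₊).toIdeal ≤ Ideal.map (comp ψ u U U' hle).hom ((𝒮.deg U hU)₊).toIdeal := by
  refine (SymAlg.Gen.irrelevant_le_span hT inferInstance hU').trans (Ideal.span_le.2 ?_)
  rintro _ ⟨x, rfl⟩
  letI := (ψ.appLE U U' hle).hom.toAlgebra
  obtain ⟨z, rfl⟩ := (bijective_pbTensor ψ E hU hU' hle).2 x
  show jv jT U' (pbTensor ψ E hle z) ∈ _
  induction z using TensorProduct.induction_on with
  | zero => rw [map_zero, map_zero]; exact zero_mem _
  | tmul s e =>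
    rw [pbTensor_tmul, jv_smul jT, ← comp_j ψ hu₂ U hU]
    exact Ideal.mul_mem_left _ _ (Ideal.mem_map_of_mem _
      (HomogeneousIdeal.mem_irrelevant_of_mem _ Nat.one_pos (hj.2 U hU e)))
  | add x y hx hy => rw [map_add, map_add]; exact add_mem hx hy

end Groth.Agent.Lib.H70.SymBC
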