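import Groth.Prelude.Def_RelSpec2
import Groth.Agent.Lib.RelSpecBasics.DirImg
import Groth.Agent.Lib.ArtinFun.HomAffine
import Groth.Agent.Lib.H70.SymBC
import Groth.Agent.Lib.H70.BCLift

set_option linter.style.haveILetI false

/-!
# Quasi-coherent modules over `f_* O_X` are direct images, `f` affine
-/

noncomputable section

universe u

open CategoryTheory Limits AlgebraicGeometry Opposite TopologicalSpace
open scoped TensorProduct

namespace Groth.Agent.Lib.H70.DirImgExists

open _root_.ZarCoh.FlatBC.PullbackSections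

variable {X S : Scheme.{u}} (f : X ⟶ S) [IsAffineHom f] (M : AMod (RelSpec.QCAlg.directImage f))

/-- The module over the structure sheaf. -/
abbrev M' : S.Modules := (AMod.toOS (RelSpec.QCAlg.directImage f)).obj M

/-- Its inverse image. -/
abbrev G : X.Modules := (Scheme.Modules.pullback f).obj (M' f M)

/-- The action of the functions on the preimage. -/
def act {U : S.Opens} (b : Γ(X, f ⁻¹ᵁ U)) : Γ(M' f M, U) →+ Γ(M' f M, U) where
  toFun m := HSMul.hSMul (α := (AMod.ringSheaf (RelSpec.QCAlg.directImage f)).obj.obj (op U))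
    (β := M.val.obj (op U)) b m
  map_zero' := smul_zero (M := (AMod.ringSheaf (RelSpec.QCAlg.directImage f)).obj.obj (op U)) (A := M.val.obj (op U)) b
  map_add' x y := smul_add (M := (AMod.ringSheaf (RelSpec.QCAlg.directImage f)).obj.obj (op U))
    (A := M.val.obj (op U)) b x y

theorem act_add {U : S.Opens} (a b : Γ(X, f ⁻¹ᵁ U)) (m : Γ(M' f M, U)) :
    act f M (a + b) m = act f M a m + act f M b m :=
  add_smul (R := (AMod.ringSheaf (RelSpec.QCAlg.directImage f)).obj.obj (op U)) (M := M.val.obj (op U)) a b m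

theorem act_mul {U : S.Opens} (a b : Γ(X, f ⁻¹ᵁ U)) (m : Γ(M' f M, U)) :
    act f M (a * b) m = act f M a (act f M b m) :=
  mul_smul (α := (AMod.ringSheaf (RelSpec.QCAlg.directImage f)).obj.obj (op U)) (β := M.val.obj (op U)) a b m

theorem act_one {U : S.Opens} (m : Γ(M' f M, U)) : act f M (1 : Γ(X, f ⁻¹ᵁ U)) m = m :=
  one_smul ((AMod.ringSheaf (RelSpec.QCAlg.directImage f)).obj.obj (op U)) (b := (show M.val.obj (op U) from m))

theorem act_app {U : S.Opens} (r : Γ(S, U)) (m : Γ(M' f M, U)) : act f M (f.app U r) m = r • m := rfl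

theorem res_act {U U₀ : S.Opens} (h : U₀ ≤ U) (b : Γ(X, f ⁻¹ᵁ U)) (m : Γ(M' f M, U)) :
    QCoh.Localizing.res (M' f M) h (act f M b m) =
      act f M (QCoh.Localizing.resR (f.preimage_mono h) b) (QCoh.Localizing.res (M' f M) h m) :=
  M.val.map_smul (homOfLE h).op b m

variable [(M' f M).IsQuasicoherent]

theorem exists_mult : ∃ μ : (Scheme.Modules.pushforward f).obj (G f M) ⟶ M' f M,
    ∀ (U : S.Opens), IsAffineOpen U → ∀ (s : Γ(X, f ⁻¹ᵁ U)) (m : Γ(M' f M, U)),
      μ.app U (s • pbRes f (M' f M) le_rfl m : Γ(G f M, f ⁻¹ᵁ U)) = act f M s m := by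
  have hd : ∀ U : S.affineOpens, ∃ d : Γ(G f M, f ⁻¹ᵁ U.1) →+ Γ(M' f M, U.1),
      (∀ (s : Γ(X, f ⁻¹ᵁ U.1)) (m : Γ(M' f M, U.1)), d (s • pbRes f (M' f M) le_rfl m) = act f M s m) ∧
        ∀ (s : Γ(X, f ⁻¹ᵁ U.1)) (x : Γ(G f M, f ⁻¹ᵁ U.1)), d (s • x) = act f M s (d x) := by
    rintro ⟨U, hU⟩
    letI := (f.appLE U (f ⁻¹ᵁ U) le_rfl).hom.toAlgebra
    let e := LinearEquiv.ofBijective (pbTensor f (M' f M) (U := U) (V := f ⁻¹ᵁ U) le_rfl)
      (bijective_pbTensor f (M' f M) hU (hU.preimage f) le_rfl)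
    let t : Γ(X, f ⁻¹ᵁ U) ⊗[Γ(S, U)] Γ(M' f M, U) →+ Γ(M' f M, U) := TensorProduct.liftAddHom
      (AddMonoidHom.mk' (fun s => act f M s) fun a b => AddMonoidHom.ext fun m => act_add f M a b m)
      (fun r s m => by
        show act f M (r • s) m = act f M s (r • m)
        rw [Algebra.smul_def, mul_comm, act_mul, ← act_app, RingHom.algebraMap_toAlgebra,
          Scheme.Hom.appLE_eq_app])
    have ht : ∀ (s : Γ(X, f ⁻¹ᵁ U)) (z : Γ(X, f ⁻¹ᵁ U) ⊗[Γ(S, U)] Γ(M' f M, U)),
        t (s • z) = act f M s (t z) := by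
      intro s z
      induction z using TensorProduct.induction_on with
      | zero => rw [smul_zero, map_zero, map_zero]
      | tmul a m => rw [TensorProduct.smul_tmul']; exact act_mul f M s a m
      | add a b ha hb => rw [smul_add, map_add, map_add, ha, hb, map_add]
    refine ⟨t.comp e.symm.toLinearMap.toAddMonoidHom, fun s m => ?_, fun s x => ?_⟩
    · show t (e.symm (s • pbRes f (M' f M) le_rfl m)) = _
      rw [show s • pbRes f (M' f M) le_rfl m = e (s ⊗ₜ m) from (pbTensor_tmul f _ _ s m).symm,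
        LinearEquiv.symm_apply_apply]
      rfl
    · show t (e.symm (s • x)) = act f M s (t (e.symm x))
      rw [map_smul, ht]
  choose d hd₁ hd₂ using hd
  obtain ⟨μ, hμ⟩ := ArtinFun.HomAffine.exists_hom_of_affine (X := S)
    (M := (Scheme.Modules.pushforward f).obj (G f M)) (N := M' f M) d
    (fun U r x => by
      let y : Γ(G f M, f ⁻¹ᵁ U.1) := x
      show d U (f.app U.1 r • y) = r • d U y
      rw [hd₂, act_app])
    (fun U V h x => by
      letI := (f.appLE U.1 (f ⁻¹ᵁ U.1) le_rfl).hom.toAlgebra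
      obtain ⟨z, rfl⟩ := (bijective_pbTensor f (M' f M) U.2 (U.2.preimage f)
        (le_refl (f ⁻¹ᵁ U.1))).2 x
      show QCoh.Localizing.res (M' f M) h (d U (pbTensor f _ _ z)) =
        d V (QCoh.Localizing.res (G f M) (f.preimage_mono h) (pbTensor f _ _ z))
      induction z using TensorProduct.induction_on with
      | zero => simp only [map_zero]
      | tmul s m =>
        rw [pbTensor_tmul, hd₁, res_act, QCoh.Localizing.res_smul, SymBC.res_pbRes, ← hd₁]
        congr 2
        exact SymBC.pbRes_res f (M' f M) h le_rfl m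
      | add a b ha hb => simp only [map_add, ha, hb])
  exact ⟨μ, fun U hU s m => (hμ ⟨U, hU⟩ _).trans (hd₁ ⟨U, hU⟩ s m)⟩

/-- Existence of the module. -/
theorem exists_dirImg_iso : ∃ F : X.Modules, F.IsQuasicoherent ∧ Nonempty ((AMod.dirImg f).obj F ≅ M) := by
  obtain ⟨μ, hμ₀⟩ := exists_mult f M
  let mu : ∀ U : S.Opens, Γ(G f M, f ⁻¹ᵁ U) →+ Γ(M' f M, U) := fun U => (μ.app U).hom
  have hμ : ∀ (U : S.Opens), IsAffineOpen U → ∀ (s : Γ(X, f ⁻¹ᵁ U)) (m : Γ(M' f M, U)),
      mu U (s • pbRes f (M' f M) le_rfl m) = act f M s m := hμ₀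
  let adj := Scheme.Modules.pullbackPushforwardAdjunction f
  let P := Scheme.Modules.pushforward f
  haveI hG : (G f M).IsQuasicoherent := QCoh.Pullback.isQCoh_pullback f _
  haveI : (P.obj (G f M)).IsQuasicoherent := QCoh.Pushforward.isQCoh_pushforward f
  haveI : (kernel μ).IsQuasicoherent := QCoh.Closure.isQCoh_kernel μ
  haveI : ((Scheme.Modules.pullback f).obj (kernel μ)).IsQuasicoherent := QCoh.Pullback.isQCoh_pullback f _
  let κ : (Scheme.Modules.pullback f).obj (kernel μ) ⟶ G f M := (adj.homEquiv _ _).symm (kernel.ι μ)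
  haveI hF : (cokernel κ).IsQuasicoherent := QCoh.Closure.isQCoh_cokernel κ
  let q := cokernel.π κ
  let θ : M' f M ⟶ P.obj (cokernel κ) := adj.unit.app (M' f M) ≫ P.map q
  have hunit : ∀ (U : S.Opens) (m : Γ(M' f M, U)),
      (adj.unit.app (M' f M)).app U m = pbRes f (M' f M) le_rfl m := fun U m =>
    (congr($(((G f M).presheaf.map_id _)) _)).symm
  have hμκ : P.map κ ≫ μ = 0 := by
    refine ArtinFun.HomAffine.hom_ext_affine fun U x => ?_
    letI := (f.appLE U.1 (f ⁻¹ᵁ U.1) le_rfl).hom.toAlgebra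
    obtain ⟨z, rfl⟩ := (bijective_pbTensor f (kernel μ) U.2 (U.2.preimage f) (le_refl (f ⁻¹ᵁ U.1))).2 x
    show mu U.1 (κ.app (f ⁻¹ᵁ U.1) (pbTensor f _ _ z)) = 0
    induction z using TensorProduct.induction_on with
    | zero => simp only [map_zero]
    | tmul s k =>
      rw [pbTensor_tmul, Scheme.Modules.Hom.app_smul]
      obtain ⟨z', hz'⟩ := (bijective_pbTensor f (M' f M) U.2 (U.2.preimage f) (le_refl (f ⁻¹ᵁ U.1))).2
        (κ.app (f ⁻¹ᵁ U.1) (pbRes f (kernel μ) le_rfl k))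
      have h0 : mu U.1 (κ.app (f ⁻¹ᵁ U.1) (pbRes f (kernel μ) le_rfl k)) = 0 := by
        rw [show κ.app (f ⁻¹ᵁ U.1) (pbRes f (kernel μ) le_rfl k) = (kernel.ι μ).app U.1 k from
          (Groth.Agent.Lib.CohDelta.BC.Transpose.transpose_pbRes f (kernel.ι μ) le_rfl k).trans
            (congr($((G f M).presheaf.map_id _) _))]
        exact congr(($(kernel.condition μ)).app U.1 k)
      have hlin : ∀ (b : Γ(X, f ⁻¹ᵁ U.1)) (z : Γ(X, f ⁻¹ᵁ U.1) ⊗[Γ(S, U.1)] Γ(M' f M, U.1)),
          mu U.1 (b • pbTensor f (M' f M) le_rfl z : Γ(G f M, f ⁻¹ᵁ U.1)) =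
            act f M b (mu U.1 (pbTensor f (M' f M) le_rfl z)) := by
        intro b z
        induction z using TensorProduct.induction_on with
        | zero => simp only [map_zero, smul_zero]
        | tmul a m => rw [pbTensor_tmul, smul_smul, hμ _ U.2, hμ _ U.2, act_mul]
        | add a c ha hc => simp only [map_add, smul_add, ha, hc]
      rw [← hz', hlin, hz', h0, map_zero]
    | add a b ha hb => simp only [map_add, ha, hb, add_zero]
  haveI := QCoh.Sections.pushforward_preservesColimit f (parallelPair κ 0) (fun j => by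
    cases j <;> assumption)
  have hcok := CokernelCofork.mapIsColimit (CokernelCofork.ofπ q (cokernel.condition κ)) (cokernelIsCokernel κ) P
  obtain ⟨ρ, hρ⟩ := CokernelCofork.IsColimit.desc' hcok μ hμκ
  replace hρ : P.map q ≫ ρ = μ := hρ
  have hret : ∀ U : S.affineOpens, ∀ m : Γ(M' f M, U.1), ρ.app U.1 (θ.app U.1 m) = m := fun U m => by
    refine (congr(($hρ).app U.1 ((adj.unit.app (M' f M)).app U.1 m))).trans ?_
    rw [hunit]
    show mu U.1 (pbRes f (M' f M) le_rfl m) = m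
    rw [← one_smul Γ(X, f ⁻¹ᵁ U.1) (pbRes f (M' f M) le_rfl m), hμ _ U.2, act_one]
  have hker : ∀ U : S.affineOpens, ∀ x : Γ(G f M, f ⁻¹ᵁ U.1), mu U.1 x = 0 → q.app (f ⁻¹ᵁ U.1) x = 0 := by
    intro U x hx
    obtain ⟨k, hk⟩ := QCoh.Closure.sections_exact
      ((ShortComplex.mk (kernel.ι μ) μ (kernel.condition μ)).exact_of_f_is_kernel (kernelIsKernel μ)) U.1 x hx
    have h1 : κ.app (f ⁻¹ᵁ U.1) (pbRes f (kernel μ) le_rfl k) = x :=
      ((Groth.Agent.Lib.CohDelta.BC.Transpose.transpose_pbRes f (kernel.ι μ) le_rfl k).trans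
        (congr($((G f M).presheaf.map_id _) _))).trans hk
    rw [← h1]
    exact congr(($(cokernel.condition κ)).app (f ⁻¹ᵁ U.1) (pbRes f (kernel μ) le_rfl k))
  let θS : ∀ U : S.Opens, Γ(M' f M, U) →+ Γ(cokernel κ, f ⁻¹ᵁ U) := fun U => (θ.app U).hom
  have hlinA : ∀ (U : S.affineOpens) (b : Γ(X, f ⁻¹ᵁ U.1)) (m : Γ(M' f M, U.1)),
      θS U.1 (act f M b m) = b • θS U.1 m := by
    intro U b m
    have h := hker U (pbRes f (M' f M) le_rfl (act f M b m) - b • pbRes f (M' f M) le_rfl m) (by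
      rw [map_sub, ← one_smul Γ(X, f ⁻¹ᵁ U.1) (pbRes f (M' f M) le_rfl (act f M b m)), hμ _ U.2, hμ _ U.2,
        act_one, sub_self])
    rw [map_sub, sub_eq_zero, Scheme.Modules.Hom.app_smul, ← hunit, ← hunit] at h
    exact h
  have hbij : ∀ U : S.affineOpens, Function.Bijective (θ.app U.1) := fun U => by
    refine ⟨fun a b h => by rw [← hret U a, h, hret U b], fun y => ?_⟩
    obtain ⟨x, rfl⟩ := QCoh.Closure.sections_surjective_of_epi q (U.2.preimage f) y
    refine ⟨mu U.1 x, ?_⟩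
    have h := hker U (pbRes f (M' f M) le_rfl (mu U.1 x) - x) (by
      rw [map_sub, ← one_smul Γ(X, f ⁻¹ᵁ U.1) (pbRes f (M' f M) le_rfl _), hμ _ U.2, act_one, sub_self])
    rw [map_sub, sub_eq_zero, ← hunit] at h
    exact h
  haveI hθiso : IsIso θ := ClSub.Basis.isIso_of_bijective_affine θ hbij
  have hlin : ∀ (W : S.Opens) (b : Γ(X, f ⁻¹ᵁ W)) (m : Γ(M' f M, W)),
      θS W (act f M b m) = b • θS W m := by
    intro W b m
    refine ArtinFun.HomAffine.section_ext_affine (P.obj (cokernel κ)) fun U hU => ?_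
    refine (ArtinFun.HomAffine.app_map θ hU (act f M b m)).symm.trans ?_
    show θS U.1 (QCoh.Localizing.res (M' f M) hU (act f M b m)) =
      QCoh.Localizing.res (cokernel κ) (f.preimage_mono hU) (b • θS W m)
    rw [res_act, hlinA, QCoh.Localizing.res_smul]
    exact congrArg (_ • ·) (ArtinFun.HomAffine.app_map θ hU m)
  let Θ : M ⟶ (AMod.dirImg f).obj (cokernel κ) := ⟨PresheafOfModules.homMk θ.mapPresheaf fun W b m => hlin W.unop b m⟩
  haveI : IsIso Θ := by
    haveI : IsIso ((AMod.toOS (RelSpec.QCAlg.directImage f)).map Θ) := by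
      rw [show (AMod.toOS (RelSpec.QCAlg.directImage f)).map Θ = θ from rfl]; exact hθiso
    exact isIso_of_reflects_iso Θ (AMod.toOS (RelSpec.QCAlg.directImage f))
  exact ⟨cokernel κ, hF, ⟨(asIso Θ).symm⟩⟩

end Groth.Agent.Lib.H70.DirImgExists
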