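import Groth.Agent.Lib.H70.GrDeh
import Groth.Agent.Lib.H70.BCLift
import Groth.Agent.H81.RelProj.ComapIso

set_option linter.style.haveILetI false
set_option linter.unusedSectionVars false

/-!
# On `D₊(f)`, `deg f = 1`, the sheaf `A(n)~` is free on `f ^ n`
-/

noncomputable section

universe u

open CategoryTheory AlgebraicGeometry TopologicalSpace Opposite DirectSum
open scoped HomogeneousIdeal

namespace Groth.Agent.Lib.H70.GrGen

open Groth.Agent.Lib.H70.GrDeh Groth.Agent.Lib.H70.BCLift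
open Groth.Agent.H81.RelProj.GrTilde.Frac Groth.Agent.H81.RelProj.GrTilde.Basic

variable {A σ : Type u} [CommRing A] [SetLike σ A] [AddSubgroupClass σ A] {𝒜 : ℕ → σ} [GradedRing 𝒜]
  {B σ' : Type u} [CommRing B] [SetLike σ' B] [AddSubgroupClass σ' B] {ℬ : ℕ → σ'} [GradedRing ℬ]

theorem smul_deh_one_bijective {f : A} (hf : f ∈ 𝒜 1) (n : ℤ) :
    Function.Bijective fun r : Γ(Proj 𝒜, Proj.basicOpen 𝒜 f) => r • deh (ℳ := 𝒜) hf n (1 : A) := by
  constructor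
  · intro r s h
    refine Subtype.ext (funext fun y => HomogeneousLocalization.val_injective _ ?_)
    have hne : ∀ k, f ^ k ∉ y.1.asHomogeneousIdeal := fun k => basicOpen_le_pow k y.2
    have h1 := congrArg (fun t : GrMod.sect 𝒜 𝒜 n (op (ProjectiveSpectrum.basicOpen 𝒜 f)) => val t y) h
    have hu : IsUnit (Localization.mk (f ^ (n - ((0 : ℕ) : ℤ)).toNat • (1 : A))
        ⟨f ^ (((0 : ℕ) : ℤ) - n).toNat, hne _⟩ : GrTwist.Loc 𝒜 y.1) := by
      rw [Localization.mk_eq_mk', IsLocalization.AtPrime.isUnit_mk'_iff _ y.1.asHomogeneousIdeal.toIdeal,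
        smul_eq_mul, mul_one]
      exact hne _
    have hv := val_deh (ℳ := 𝒜) hf n (SetLike.one_mem_graded 𝒜) y (hne _)
    refine hu.mul_left_inj.1 ?_
    exact (congrArg ((r.1 y).val • ·) hv).symm.trans ((val_smul (U := ProjectiveSpectrum.basicOpen 𝒜 f)
      r _ y).symm.trans (h1.trans ((val_smul (U := ProjectiveSpectrum.basicOpen 𝒜 f) s _ y).trans
        (congrArg ((s.1 y).val • ·) hv))))
  · intro t
    obtain ⟨a, rfl⟩ := deh_surjective (ℳ := 𝒜) hf n t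
    refine ⟨dehO hf a, ?_⟩
    show dehO hf a • deh (ℳ := 𝒜) hf n (1 : A) = _
    rw [← deh_smul, smul_eq_mul, mul_one]

variable (ψ : 𝒜 →+*ᵍ ℬ) (hψ : ℬ₊ ≤ (𝒜₊).map ψ)
  (v : A →ₛₗ[ψ.toRingHom] B) (hv : ∀ (i : ℕ) (m : A), m ∈ 𝒜 i → v m ∈ ℬ i)

/-- For `f` of degree one the comparison `A(n)~ → Φ_* B(n)~` is a base change on `D₊(f)`. -/
theorem isBC (hv1 : v 1 = 1) {f : A} (hf : f ∈ 𝒜 1) (n : ℤ)
    (e : Proj.basicOpen ℬ (ψ f) ≤ Proj.map ψ hψ ⁻¹ᵁ Proj.basicOpen 𝒜 f) :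
    IsBC ((Proj.map ψ hψ).appLE (Proj.basicOpen 𝒜 f) (Proj.basicOpen ℬ (ψ f)) e).hom
      (sectMap (Proj.map ψ hψ) (GrMod.comap ψ hψ v hv n) e) := by
  have hf' : ψ f ∈ ℬ 1 := ψ.map_mem hf
  refine IsBC.of_gen (fun r m => ?_) (deh (ℳ := 𝒜) hf n (1 : A)) (smul_deh_one_bijective hf n).2 ?_
  · show (GrMod.tilde ℬ ℬ n).presheaf.map (homOfLE e).op ((GrMod.comap ψ hψ v hv n).app _ (r • m)) = _
    erw [Scheme.Modules.Hom.app_smul]
    exact Scheme.Modules.map_smul _ _ _ _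
  · have key : sectMap (Proj.map ψ hψ) (GrMod.comap ψ hψ v hv n) e (deh (ℳ := 𝒜) hf n (1 : A)) =
        deh (ℳ := ℬ) hf' n (1 : B) := by
      refine sect_ext (U := ProjectiveSpectrum.basicOpen ℬ (ψ f)) fun y => ?_
      let y' : ProjectiveSpectrum.basicOpen 𝒜 f := ⟨ProjectiveSpectrum.comap ψ hψ y.1, y.2⟩
      show GrMod.locModMap ψ hψ v y.1 (val (deh (ℳ := 𝒜) hf n (1 : A) :
        GrMod.sect 𝒜 𝒜 n (op (ProjectiveSpectrum.basicOpen 𝒜 f))) y') = _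
      rw [val_deh (ℳ := 𝒜) hf n (SetLike.one_mem_graded 𝒜) y' (basicOpen_le_pow _ y'.2),
        val_deh (ℳ := ℬ) hf' n (SetLike.one_mem_graded ℬ) y (basicOpen_le_pow _ y.2), GrMod.locModMap_mk]
      refine congrArg₂ LocalizedModule.mk ?_ (Subtype.ext (map_pow ψ f _))
      rw [map_smulₛₗ, hv1]
      exact congrArg (· • (1 : B)) (map_pow ψ.toRingHom f _)
    rw [key]
    exact smul_deh_one_bijective hf' n

end Groth.Agent.Lib.H70.GrGen
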