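import Groth.Agent.H81.RelProj.GrTilde.QCoh
import Mathlib.Algebra.DirectSum.Ring

set_option linter.style.haveILetI false
set_option linter.unusedSectionVars false

/-!
# The fractions `m / f ^ k` on `D₊(f)` and constants from degree zero
-/

noncomputable section

universe u

open CategoryTheory AlgebraicGeometry TopologicalSpace Opposite DirectSum
open HomogeneousLocalization (Away)

namespace Groth.Agent.Lib.H70.GrSec

open Groth.Agent.H81.RelProj.GrTilde.Frac Groth.Agent.H81.RelProj.GrTilde.Basic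

variable {A σ : Type u} [CommRing A] [SetLike σ A] [AddSubgroupClass σ A] {𝒜 : ℕ → σ} [GradedRing 𝒜]
variable {d : ℕ} {f : A}
variable {M τ : Type u} [AddCommGroup M] [Module A M] [SetLike τ M] [AddSubgroupClass τ M] (ℳ : ℕ → τ)
  [SetLike.GradedSMul 𝒜 ℳ] [DirectSum.Decomposition ℳ]

theorem mem_pow_basicOpen (k : ℕ) (y : ProjectiveSpectrum.basicOpen 𝒜 f) :
    f ^ k ∉ y.1.asHomogeneousIdeal := fun h => y.2 (y.1.isPrime.mem_of_pow_mem k h)

/-- The degree of the numerators. -/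
def idx (d : ℕ) (n : ℤ) (k : ℕ) : ℕ := ((k : ℤ) * d + n).toNat

theorem idx_spec {d : ℕ} (hd : 0 < d) {n : ℤ} {k : ℕ} (hk : n.natAbs ≤ k) :
    (idx d n k : ℤ) = k * d + n := by
  have h : (k : ℤ) ≤ k * d := le_mul_of_one_le_right (by positivity) (by exact_mod_cast hd)
  rw [idx, Int.toNat_of_nonneg]
  omega

theorem idx_add {d : ℕ} (hd : 0 < d) {n : ℤ} {k : ℕ} (hk : n.natAbs ≤ k) (l : ℕ) :
    idx d n (l + k) = l * d + idx d n k := by
  have h1 := idx_spec hd hk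
  have h2 := idx_spec hd (n := n) (k := l + k) (by omega)
  have : (idx d n (l + k) : ℤ) = ((l * d + idx d n k : ℕ) : ℤ) := by push_cast; rw [h2, h1]; push_cast; ring
  exact_mod_cast this

/-- The homogeneous component. -/
def proj (i : ℕ) : M →+ M :=
  AddMonoidHom.mk' (fun m => (decompose ℳ m i : M)) fun a b => by
    rw [decompose_add, DirectSum.add_apply, AddMemClass.coe_add]

variable {ℳ} in
theorem proj_of_mem {i : ℕ} {m : M} (hm : m ∈ ℳ i) : proj ℳ i m = m := decompose_of_mem_same ℳ hm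

theorem proj_mem (i : ℕ) (m : M) : proj ℳ i m ∈ ℳ i := SetLike.coe_mem _

theorem proj_smul {j : ℕ} {a : A} (ha : a ∈ 𝒜 j) (i : ℕ) (m : M) :
    proj ℳ (j + i) (a • m) = a • proj ℳ i m := by
  induction m using DirectSum.Decomposition.inductionOn ℳ with
  | zero => rw [smul_zero, map_zero, map_zero, smul_zero]
  | @homogeneous l m =>
    by_cases h : l = i
    · subst h
      rw [proj_of_mem m.2, proj_of_mem (smul_mem_of_mem ha m.2)]
    · show (decompose ℳ (a • (m : M)) (j + i) : M) = a • (decompose ℳ (m : M) i : M)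
      rw [decompose_of_mem_ne ℳ m.2 h, smul_zero,
        decompose_of_mem_ne ℳ (smul_mem_of_mem ha m.2) (by omega)]
  | add a b ha hb => rw [smul_add, map_add, map_add, smul_add, ha, hb]

variable (hf : f ∈ 𝒜 d) (hd : 0 < d) (n : ℤ)

/-- `m ↦ m_i / f ^ k`, `i = k d + n`. -/
def F₀ (k : ℕ) (hk : n.natAbs ≤ k) : M →+ GrMod.sect 𝒜 ℳ n (op (ProjectiveSpectrum.basicOpen 𝒜 f)) :=
  AddMonoidHom.mk'
    (fun m => fracSec _ (SetLike.pow_mem_graded k hf)
      (Deg.of_mem (proj_mem ℳ (idx d n k) m) (Or.inl (by rw [idx_spec hd hk, smul_eq_mul]; push_cast; ring)))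
      (fun y hy => mem_pow_basicOpen k ⟨y, hy⟩))
    fun a b => sect_ext (U := ProjectiveSpectrum.basicOpen 𝒜 f) fun y => by
      rw [val_add, val_fracSec, val_fracSec, val_fracSec, LocalizedModule.mk_add_mk, LocalizedModule.mk_eq]
      exact ⟨1, by simp only [one_smul, Submonoid.smul_def, map_add, smul_add, mul_smul]⟩

/-- `F₀`, into the sections of the sheaf. -/
def F (k : ℕ) (hk : n.natAbs ≤ k) : M →+ Γ(GrMod.tilde 𝒜 ℳ n, Proj.basicOpen 𝒜 f) := F₀ ℳ hf hd n k hk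

variable {n} {ℳ}

theorem val_F {k : ℕ} (hk : n.natAbs ≤ k) {m : M} (hm : m ∈ ℳ (idx d n k))
    (y : ProjectiveSpectrum.basicOpen 𝒜 f) :
    val (F ℳ hf hd n k hk m : GrMod.sect 𝒜 ℳ n (op (ProjectiveSpectrum.basicOpen 𝒜 f))) y = LocalizedModule.mk m ⟨f ^ k, mem_pow_basicOpen k y⟩ := by
  show LocalizedModule.mk (proj ℳ (idx d n k) m) _ = _
  rw [proj_of_mem hm]

theorem val_F' {k : ℕ} (hk : n.natAbs ≤ k) (m : M) (y : ProjectiveSpectrum.basicOpen 𝒜 f) :
    val (F ℳ hf hd n k hk m : GrMod.sect 𝒜 ℳ n (op (ProjectiveSpectrum.basicOpen 𝒜 f))) y =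
      LocalizedModule.mk (proj ℳ (idx d n k) m) ⟨f ^ k, mem_pow_basicOpen k y⟩ := rfl

theorem F_smul_self {k : ℕ} (hk : n.natAbs ≤ k) (hk' : n.natAbs ≤ 1 + k) (m : M) :
    F ℳ hf hd n (1 + k) hk' (f • m) = F ℳ hf hd n k hk m := by
  refine sect_ext (U := ProjectiveSpectrum.basicOpen 𝒜 f) fun y => ?_
  rw [val_F', val_F', idx_add hd hk, one_mul, proj_smul ℳ hf, LocalizedModule.mk_eq]
  refine ⟨1, ?_⟩
  simp only [one_smul, Submonoid.smul_def, smul_smul]
  congr 1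
  ring

/-- The scalar `a / f ^ l`. -/
def sc (l : ℕ) (a : A) (ha : a ∈ 𝒜 (l * d)) : Γ(Proj 𝒜, Proj.basicOpen 𝒜 f) :=
  Proj.awayToSection 𝒜 f (Away.mk 𝒜 hf l a (by rwa [smul_eq_mul]))

theorem sc_surjective (hd : 0 < d) (z : Γ(Proj 𝒜, Proj.basicOpen 𝒜 f)) : ∃ l a ha, sc hf l a ha = z := by
  haveI : IsIso (Proj.awayToSection 𝒜 f) :=
    inferInstanceAs (IsIso (Proj.basicOpenIsoAway 𝒜 f hf hd).hom)
  obtain ⟨w, rfl⟩ := (ConcreteCategory.bijective_of_isIso (Proj.awayToSection 𝒜 f)).2 z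
  obtain ⟨l, a, ha, rfl⟩ := Away.mk_surjective 𝒜 hf w
  exact ⟨l, a, by rwa [smul_eq_mul] at ha, rfl⟩

theorem sc_add (l : ℕ) {a b : A} (ha : a ∈ 𝒜 (l * d)) (hb : b ∈ 𝒜 (l * d)) :
    sc hf l (a + b) (add_mem ha hb) = sc hf l a ha + sc hf l b hb := by
  rw [sc, sc, sc, ← map_add]
  refine congrArg (Proj.awayToSection 𝒜 f) (HomogeneousLocalization.val_injective _ ?_)
  rw [HomogeneousLocalization.val_add, Away.val_mk, Away.val_mk, Away.val_mk, Localization.add_mk_self]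

theorem sc_smul_F {l : ℕ} {a : A} (ha : a ∈ 𝒜 (l * d)) {k : ℕ} (hk : n.natAbs ≤ k) (hk' : n.natAbs ≤ l + k)
    (m : M) :
    sc hf l a ha • F ℳ hf hd n k hk m =
      F ℳ hf hd n (l + k) hk' (a • m) := by
  refine sect_ext (U := ProjectiveSpectrum.basicOpen 𝒜 f) fun y => ?_
  refine (val_smul (U := ProjectiveSpectrum.basicOpen 𝒜 f) (sc hf l a ha) _ y).trans ?_
  refine Eq.trans (congrArg₂ (· • ·) (Groth.Agent.H81.RelProj.GrTilde.QCoh.val_awayToSection hf l a
    (by rwa [smul_eq_mul]) y (mem_pow_basicOpen l y)) (val_F' hf hd hk m y)) ?_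
  rw [val_F', idx_add hd hk, proj_smul ℳ ha, LocalizedModule.mk_smul_mk]
  exact congrArg (LocalizedModule.mk _) (Subtype.ext (pow_add f l k).symm)

variable {R : Type u} [CommRing R] (ι : R →+* A) (hι : ∀ r, ι r ∈ 𝒜 0)

/-- The constant functions. -/
def cst (f : A) : R →+* Γ(Proj 𝒜, Proj.basicOpen 𝒜 f) :=
  (Proj.awayToSection 𝒜 f).hom.comp ((HomogeneousLocalization.fromZeroRingHom 𝒜 (Submonoid.powers f)).comp
    { toFun := fun r => (⟨ι r, hι r⟩ : 𝒜 0)
      map_one' := Subtype.ext (map_one ι)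
      map_mul' := fun a b => Subtype.ext (map_mul ι a b)
      map_zero' := Subtype.ext (map_zero ι)
      map_add' := fun a b => Subtype.ext (map_add ι a b) })

include hf in
theorem cst_eq_sc (r : R) : cst ι hι f r = sc hf 0 (ι r) (by rw [zero_mul]; exact hι r) := by
  refine congrArg (Proj.awayToSection 𝒜 f) (HomogeneousLocalization.val_injective _ ?_)
  rw [Away.val_mk]
  exact (HomogeneousLocalization.val_mk _).trans (congrArg₂ Localization.mk rfl (Subtype.ext (pow_zero f).symm))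

theorem cst_smul_F (r : R) {k : ℕ} (hk : n.natAbs ≤ k) (m : M) :
    cst ι hι f r • F ℳ hf hd n k hk m =
      F ℳ hf hd n k hk (ι r • m) := by
  rw [cst_eq_sc hf]
  have key : ∀ (j : ℕ) (hj : n.natAbs ≤ j), j = k →
      F ℳ hf hd n j hj (ι r • m) = F ℳ hf hd n k hk (ι r • m) := by
    rintro j hj rfl; rfl
  exact (sc_smul_F hf hd _ hk (by omega) m).trans (key _ _ (zero_add k))

theorem exists_eq_F (s : Γ(GrMod.tilde 𝒜 ℳ n, Proj.basicOpen 𝒜 f)) :
    ∃ (k : ℕ) (hk : n.natAbs ≤ k) (m : M), F ℳ hf hd n k hk m = s := by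
  obtain ⟨k, i, m, hm, hi, hval⟩ := exists_frac_basicOpen hd hf
    (s : GrMod.sect 𝒜 ℳ n (op (ProjectiveSpectrum.basicOpen 𝒜 f)))
  refine ⟨k + n.natAbs, by omega, f ^ n.natAbs • m, sect_ext (U := ProjectiveSpectrum.basicOpen 𝒜 f) fun y => ?_⟩
  have hfN : f ^ n.natAbs • m ∈ ℳ (idx d n (k + n.natAbs)) := by
    have h := smul_mem_of_mem (SetLike.pow_mem_graded n.natAbs hf) hm
    have : (idx d n (k + n.natAbs) : ℤ) = ((n.natAbs • d + i : ℕ) : ℤ) := by
      rw [idx_spec hd (by omega), smul_eq_mul]; push_cast; rw [hi]; ring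
    rwa [Int.natCast_inj.1 this]
  rw [val_F hf hd _ hfN, hval y (mem_pow_basicOpen k y), LocalizedModule.mk_eq]
  exact ⟨1, by simp only [one_smul, Submonoid.smul_def, smul_smul, ← pow_add]⟩

theorem F_eq_zero {k : ℕ} (hk : n.natAbs ≤ k) {m : M} (h : F ℳ hf hd n k hk m = 0) :
    ∃ N : ℕ, f ^ N • proj ℳ (idx d n k) m = 0 :=
  exists_pow_smul_eq_zero hd hf fun y => by
    have h1 := congrArg (fun t : GrMod.sect 𝒜 ℳ n (op (ProjectiveSpectrum.basicOpen 𝒜 f)) => val t y) h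
    rw [val_F'] at h1
    exact (mk_eq_zero_iff (proj_mem ℳ _ m)).1 h1

end Groth.Agent.Lib.H70.GrSec
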