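import Mathlib.Algebra.Homology.Homotopy
import Mathlib.Algebra.Homology.Additive
import Mathlib.CategoryTheory.Abelian.Basic
import Mathlib.CategoryTheory.Limits.Preserves.Shapes.Kernels

/-!
# Embedding a bounded below complex degreewise into chosen objects

Given monomorphisms `η E : E ⟶ T E`, we build for a complex `F` in degrees `≥ 0` a complex `G` with
terms `T Q` and a map `φ : F ⟶ G`, which becomes a homotopy equivalence after applying any additive
functor that preserves cokernels and splits all `η E`.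
-/

open CategoryTheory Limits

namespace Groth.Agent.Lib.H70.StepResolution

universe v v' u u'

variable {A : Type u} [Category.{v} A] [Abelian A] (T : A → A) (η : ∀ E, E ⟶ T E)
  (F : CochainComplex A ℕ)

/-- The state of the construction at stage `k`. -/
structure St (k : ℕ) where
  Q : A
  p : F.X k ⟶ Q
  q : Q ⟶ F.X (k + 1)
  hpq : p ≫ q = -F.d k (k + 1)
  hq : q ≫ F.d (k + 1) (k + 2) = 0

variable {F} in
/-- The inclusion defining the next stage. -/
noncomputable abbrev ι {k : ℕ} (s : St F k) : s.Q ⟶ F.X (k + 1) ⊞ T s.Q :=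
  biprod.lift s.q (η s.Q)

variable {F} in
/-- The next stage. -/
noncomputable def next {k : ℕ} (s : St F k) : St F (k + 1) where
  Q := cokernel (ι T η s)
  p := biprod.inl ≫ cokernel.π (ι T η s)
  q := cokernel.desc _ (biprod.fst ≫ (-F.d (k + 1) (k + 2)))
    (by rw [biprod.lift_fst_assoc, Preadditive.comp_neg, s.hq, neg_zero])
  hpq := by simp
  hq := by
    rw [← cancel_epi (cokernel.π (ι T η s)), cokernel.π_desc_assoc, comp_zero, Category.assoc,
      Preadditive.neg_comp, F.d_comp_d, neg_zero, comp_zero]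

/-- The stages. -/
noncomputable def st : ∀ k, St F k
  | 0 => ⟨F.X 0, 𝟙 _, -F.d 0 1, by simp, by simp⟩
  | k + 1 => next T η (st k)

/-- The objects `Q`. -/
noncomputable abbrev Q (k : ℕ) : A := (st T η F k).Q

/-- The map `T Q_k ⟶ Q_{k+1}`. -/
noncomputable def j (k : ℕ) : T (Q T η F k) ⟶ Q T η F (k + 1) :=
  (biprod.inr ≫ cokernel.π (ι T η (st T η F k)) :)

lemma relation (k : ℕ) :
    (st T η F k).q ≫ (st T η F (k + 1)).p + η _ ≫ j T η F k = 0 := by
  change (st T η F k).q ≫ biprod.inl ≫ cokernel.π (ι T η (st T η F k)) +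
    η _ ≫ biprod.inr ≫ cokernel.π (ι T η (st T η F k)) = 0
  rw [← Category.assoc, ← Category.assoc, ← Preadditive.add_comp, ← biprod.lift_eq]
  exact cokernel.condition _

lemma j_q (k : ℕ) : j T η F k ≫ (st T η F (k + 1)).q = 0 := by
  change (biprod.inr ≫ cokernel.π (ι T η (st T η F k))) ≫ cokernel.desc _ _ _ = 0
  rw [Category.assoc, cokernel.π_desc, biprod.inr_fst_assoc, zero_comp]

/-- The differential. -/
noncomputable def dG (k : ℕ) : T (Q T η F k) ⟶ T (Q T η F (k + 1)) :=
  j T η F k ≫ η _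

lemma dG_dG (k : ℕ) : dG T η F k ≫ dG T η F (k + 1) = 0 := by
  have h : η _ ≫ j T η F (k + 1) = -((st T η F (k + 1)).q ≫ (st T η F (k + 2)).p) :=
    eq_neg_of_add_eq_zero_right (relation T η F (k + 1))
  simp only [dG, Category.assoc, reassoc_of% h, Preadditive.neg_comp, Preadditive.comp_neg,
    reassoc_of% (j_q T η F k), zero_comp, neg_zero]

/-- The complex. -/
noncomputable abbrev G : CochainComplex A ℕ :=
  CochainComplex.of (fun k => T (Q T η F k)) (dG T η F) (dG_dG T η F)

lemma G_d (k : ℕ) : (G T η F).d k (k + 1) = dG T η F k := CochainComplex.of_d (fun k => T (Q T η F k)) (dG T η F) k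

/-- The map. -/
noncomputable def φ : F ⟶ G T η F where
  f k := (st T η F k).p ≫ η (Q T η F k)
  comm' := by
    rintro k _ rfl
    rw [G_d]
    have h : η _ ≫ j T η F k = -((st T η F k).q ≫ (st T η F (k + 1)).p) :=
      eq_neg_of_add_eq_zero_right (relation T η F k)
    show ((st T η F k).p ≫ η _) ≫ j T η F k ≫ η _ = F.d k (k + 1) ≫ (st T η F (k + 1)).p ≫ η _
    rw [Category.assoc, reassoc_of% h, Preadditive.neg_comp, Preadditive.comp_neg,
      Category.assoc, ← Category.assoc, (st T η F k).hpq, Preadditive.neg_comp, neg_neg]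

section

variable {B : Type u'} [Category.{v'} B] [Preadditive B] (S : A ⥤ B) [S.Additive]
  [∀ {X Y : A} (f : X ⟶ Y), PreservesColimit (parallelPair f 0) S]
  (r : ∀ E, S.obj (T E) ⟶ S.obj E) (hr : ∀ E, S.map (η E) ≫ r E = 𝟙 _)

/-- Splitting data at stage `k`. -/
structure Split (k : ℕ) where
  a : S.obj (Q T η F k) ⟶ S.obj (F.X k)
  pa : S.map (st T η F k).p ≫ a = 𝟙 _

lemma exists_split_next (hr : ∀ E, S.map (η E) ≫ r E = 𝟙 _) (k : ℕ) :
    ∃ (a : S.obj (Q T η F (k + 1)) ⟶ S.obj (F.X (k + 1)))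
      (b : S.obj (Q T η F (k + 1)) ⟶ S.obj (T (Q T η F k))),
      S.map (st T η F (k + 1)).p ≫ a = 𝟙 _ ∧
      S.map (j T η F k) ≫ a = -(r _ ≫ S.map (st T η F k).q) ∧
      S.map (j T η F k) ≫ b + r _ ≫ S.map (η _) = 𝟙 _ ∧
      a ≫ S.map (st T η F (k + 1)).p + b ≫ S.map (j T η F k) = 𝟙 _ := by
  let i := ι T η (st T η F k)
  let ρ : S.obj (F.X (k + 1) ⊞ T (Q T η F k)) ⟶ S.obj (Q T η F k) := S.map biprod.snd ≫ r _
  have hρ : S.map i ≫ ρ = 𝟙 _ := by
    rw [← S.map_comp_assoc, biprod.lift_snd, hr]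
  have hc := CokernelCofork.mapIsColimit _ (cokernelIsCokernel i) S
  let l := CokernelCofork.IsColimit.desc' hc (𝟙 _ - ρ ≫ S.map i)
    (by rw [Preadditive.comp_sub, Category.comp_id, ← Category.assoc, hρ, Category.id_comp, sub_self])
  let σ : S.obj (cokernel i) ⟶ S.obj (F.X (k + 1) ⊞ T (Q T η F k)) := l.1
  have hσ : S.map (cokernel.π i) ≫ σ = 𝟙 _ - ρ ≫ S.map i := l.2
  refine ⟨σ ≫ S.map biprod.fst, σ ≫ S.map biprod.snd, ?_, ?_, ?_, ?_⟩
  · change S.map (biprod.inl ≫ cokernel.π i) ≫ σ ≫ S.map biprod.fst = _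
    rw [S.map_comp, Category.assoc, reassoc_of% hσ]
    simp only [ρ, Preadditive.sub_comp, Preadditive.comp_sub, Category.id_comp, Category.assoc,
      ← S.map_comp_assoc, biprod.inl_snd, S.map_zero, zero_comp, sub_zero]
    rw [← S.map_comp, biprod.inl_fst, S.map_id]
  · change S.map (biprod.inr ≫ cokernel.π i) ≫ σ ≫ S.map biprod.fst = _
    rw [S.map_comp, Category.assoc, reassoc_of% hσ]
    simp only [ρ, i, Preadditive.sub_comp, Preadditive.comp_sub, Category.id_comp, Category.assoc,
      ← S.map_comp_assoc, biprod.inr_snd, S.map_id, ← S.map_comp, biprod.inr_fst, biprod.lift_fst,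
      S.map_zero, zero_sub]
  · change S.map (biprod.inr ≫ cokernel.π i) ≫ σ ≫ S.map biprod.snd + _ = _
    rw [S.map_comp, Category.assoc, reassoc_of% hσ]
    simp only [ρ, i, Preadditive.sub_comp, Preadditive.comp_sub, Category.id_comp, Category.assoc,
      ← S.map_comp_assoc, biprod.inr_snd, S.map_id, ← S.map_comp, biprod.lift_snd, sub_add_cancel]
  · have : Epi (S.map (cokernel.π i)) := Cofork.IsColimit.epi hc
    refine (cancel_epi (S.map (cokernel.π i))).1 ?_
    change S.map (cokernel.π i) ≫ ((σ ≫ S.map biprod.fst) ≫ S.map (biprod.inl ≫ cokernel.π i) +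
      (σ ≫ S.map biprod.snd) ≫ S.map (biprod.inr ≫ cokernel.π i)) = _
    simp only [Category.assoc, ← S.map_comp, ← Preadditive.comp_add, ← S.map_add]
    rw [← Category.assoc biprod.fst, ← Category.assoc biprod.snd, ← Preadditive.add_comp,
      biprod.total, Category.id_comp, reassoc_of% hσ, Preadditive.sub_comp, Category.id_comp,
      Category.assoc, ← S.map_comp, cokernel.condition, S.map_zero, comp_zero, sub_zero]
    exact (Category.comp_id _).symm

/-- The retraction `S Q_k ⟶ S F^k`. -/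
noncomputable def a : ∀ k, S.obj (Q T η F k) ⟶ S.obj (F.X k)
  | 0 => 𝟙 _
  | k + 1 => (exists_split_next T η F S r hr k).choose

/-- The homotopy component. -/
noncomputable def b (k : ℕ) : S.obj (Q T η F (k + 1)) ⟶ S.obj (T (Q T η F k)) :=
  (exists_split_next T η F S r hr k).choose_spec.choose

include hr in
lemma next_spec (k : ℕ) :
    S.map (st T η F (k + 1)).p ≫ a T η F S r hr (k + 1) = 𝟙 _ ∧
      S.map (j T η F k) ≫ a T η F S r hr (k + 1) = -(r _ ≫ S.map (st T η F k).q) ∧
      S.map (j T η F k) ≫ b T η F S r hr k + r _ ≫ S.map (η _) = 𝟙 _ ∧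
      a T η F S r hr (k + 1) ≫ S.map (st T η F (k + 1)).p +
        b T η F S r hr k ≫ S.map (j T η F k) = 𝟙 _ :=
  (exists_split_next T η F S r hr k).choose_spec.choose_spec

lemma p_a : ∀ k, S.map (st T η F k).p ≫ a T η F S r hr k = 𝟙 _
  | 0 => by
    change S.map (𝟙 _) ≫ 𝟙 _ = 𝟙 _
    rw [S.map_id, Category.comp_id]
  | k + 1 => (next_spec T η F S r hr k).1

lemma a_p_q : ∀ k, a T η F S r hr k ≫ S.map (F.d k (k + 1)) = -S.map (st T η F k).q
  | 0 => by
    change 𝟙 _ ≫ S.map (F.d 0 1) = -S.map (-F.d 0 1)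
    rw [S.map_neg, neg_neg, Category.id_comp]
  | k + 1 => by
    have h := congrArg (· ≫ S.map (st T η F (k + 1)).q) (next_spec T η F S r hr k).2.2.2
    simp only [Preadditive.add_comp, Category.assoc, ← S.map_comp, (st T η F (k + 1)).hpq, j_q,
      S.map_zero, comp_zero, add_zero, Category.id_comp, S.map_neg, Preadditive.comp_neg] at h
    rw [← h, neg_neg]

/-- The homotopy inverse. -/
noncomputable def ψ : (S.mapHomologicalComplex _).obj (G T η F) ⟶
    (S.mapHomologicalComplex _).obj F where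
  f k := (r (Q T η F k) ≫ a T η F S r hr k :)
  comm' := by
    rintro k _ rfl
    show (r _ ≫ a T η F S r hr k) ≫ S.map (F.d k (k + 1)) =
      S.map ((G T η F).d k (k + 1)) ≫ r _ ≫ a T η F S r hr (k + 1)
    rw [G_d, Category.assoc, a_p_q, dG, S.map_comp, Category.assoc, reassoc_of% (hr _),
      (next_spec T η F S r hr k).2.1, Preadditive.comp_neg]

lemma φ_ψ : (S.mapHomologicalComplex _).map (φ T η F) ≫ ψ T η F S r hr = 𝟙 _ := by
  refine HomologicalComplex.hom_ext _ _ fun k => ?_
  show S.map ((st T η F k).p ≫ η _) ≫ r _ ≫ a T η F S r hr k = 𝟙 _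
  rw [S.map_comp, Category.assoc, reassoc_of% (hr _), p_a]

/-- The homotopy. -/
noncomputable def hmap : ∀ m l : ℕ, (ComplexShape.up ℕ).Rel l m →
    (((S.mapHomologicalComplex _).obj (G T η F)).X m ⟶
      ((S.mapHomologicalComplex _).obj (G T η F)).X l) :=
  fun m l h => eqToHom (congrArg ((S.mapHomologicalComplex _).obj (G T η F)).X
    (show l + 1 = m from h).symm) ≫ ((r (Q T η F (l + 1)) ≫ b T η F S r hr l :) :
    ((S.mapHomologicalComplex _).obj (G T η F)).X (l + 1) ⟶
      ((S.mapHomologicalComplex _).obj (G T η F)).X l)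

lemma key_zero : (r (Q T η F 0) ≫ a T η F S r hr 0) ≫ S.map ((st T η F 0).p ≫ η _) +
    S.map (dG T η F 0) ≫ r _ ≫ b T η F S r hr 0 = 𝟙 _ := by
  change (r _ ≫ 𝟙 _) ≫ S.map (𝟙 _ ≫ η (Q T η F 0)) + _ = _
  rw [dG, S.map_comp, S.map_comp, Category.assoc (S.map (j T η F 0)), reassoc_of% (hr _), S.map_id,
    Category.id_comp, Category.comp_id, add_comm]
  exact (next_spec T η F S r hr 0).2.2.1

lemma key_succ (k : ℕ) :
    (r _ ≫ a T η F S r hr (k + 1)) ≫ S.map ((st T η F (k + 1)).p ≫ η _) +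
      (S.map (dG T η F (k + 1)) ≫ r _ ≫ b T η F S r hr (k + 1) +
        (r _ ≫ b T η F S r hr k) ≫ S.map (dG T η F k)) = 𝟙 _ := by
  rw [dG, dG, S.map_comp, S.map_comp, S.map_comp, Category.assoc (S.map (j T η F (k + 1))),
    reassoc_of% (hr _)]
  have h3 := (next_spec T η F S r hr (k + 1)).2.2.1
  have h4 := congrArg (fun f => r (Q T η F (k + 1)) ≫ f ≫ S.map (η _))
    (next_spec T η F S r hr k).2.2.2
  simp only [Preadditive.add_comp, Preadditive.comp_add, Category.assoc, Category.id_comp] at h4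
  refine Eq.trans ?_ h3
  rw [← h4]
  simp only [Category.assoc]
  abel

lemma ψ_φ : ψ T η F S r hr ≫ (S.mapHomologicalComplex _).map (φ T η F) +
    Homotopy.nullHomotopicMap' (hmap T η F S r hr) = 𝟙 _ := by
  refine HomologicalComplex.hom_ext _ _ fun k => ?_
  cases k with
  | zero =>
    rw [HomologicalComplex.add_f_apply, Homotopy.nullHomotopicMap'_f_of_not_rel_right
      (show (ComplexShape.up ℕ).Rel 0 1 from rfl) (fun l => Nat.succ_ne_zero l)]
    simp only [hmap, eqToHom_refl, Category.id_comp]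
    have h := key_zero T η F S r hr
    rw [← G_d] at h
    exact h
  | succ k =>
    rw [HomologicalComplex.add_f_apply, Homotopy.nullHomotopicMap'_f
      (show (ComplexShape.up ℕ).Rel k (k + 1) from rfl)
      (show (ComplexShape.up ℕ).Rel (k + 1) (k + 2) from rfl)]
    simp only [hmap, eqToHom_refl, Category.id_comp]
    have h := key_succ T η F S r hr k
    rw [← G_d, ← G_d] at h
    exact h

/-- `φ` is a homotopy equivalence after applying `S`. -/
noncomputable def homotopyEquiv :
    HomotopyEquiv ((S.mapHomologicalComplex _).obj F) ((S.mapHomologicalComplex _).obj (G T η F)) where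
  hom := (S.mapHomologicalComplex _).map (φ T η F)
  inv := ψ T η F S r hr
  homotopyHomInvId := Homotopy.ofEq (φ_ψ T η F S r hr)
  homotopyInvHomId :=
    (((Homotopy.ofEq rfl).add (Homotopy.nullHomotopy' (hmap T η F S r hr)).symm).trans
      (Homotopy.ofEq (ψ_φ T η F S r hr))).trans (Homotopy.ofEq rfl) |> fun h =>
        (Homotopy.ofEq (add_zero _).symm).trans h

end

end Groth.Agent.Lib.H70.StepResolution
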