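import Groth.Agent.Lib.CohDelta.BC.Transpose
import Groth.Agent.Lib.QCoh.Localizing

set_option linter.style.haveILetI false

/-!
# The transpose of `A ⟶ g_* B` when `A` is generated by one section
-/

noncomputable section

universe u

open CategoryTheory AlgebraicGeometry AlgebraicGeometry.Scheme.Modules TopologicalSpace Opposite

namespace Groth.Agent.Lib.H70.TransposeGen

open Groth.Agent.Lib.CohDelta.BC.Transpose _root_.ZarCoh.FlatBC.PullbackSections

variable {S S' : Scheme.{u}} (g : S' ⟶ S) {A : S.Modules} {B : S'.Modules}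
  (φ : A ⟶ (pushforward g).obj B)

/-- If, around every point, `A` is generated on an affine `V` by one section whose image generates `B`
freely on the affine opens over `V`, the transpose `g^* A ⟶ B` is an isomorphism. -/
theorem isIso_transpose_of_gen [A.IsQuasicoherent]
    (H : ∀ x : S', ∃ V : S.Opens, IsAffineOpen V ∧ g x ∈ V ∧ ∃ e : Γ(A, V),
      (∀ a : Γ(A, V), ∃ r : Γ(S, V), r • e = a) ∧
      ∀ (W : S'.Opens) (hW : W ≤ g ⁻¹ᵁ V), IsAffineOpen W →
        Function.Bijective fun r : Γ(S', W) => r • (B.presheaf.map (homOfLE hW).op (φ.app V e) : Γ(B, W))) :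
    IsIso (((pullbackPushforwardAdjunction g).homEquiv A B).symm φ) := by
  refine isIso_of_bijective_basis _
    (B := {W | ∃ (V : S.Opens) (hV : IsAffineOpen V) (hle : W ≤ g ⁻¹ᵁ V) (hW : IsAffineOpen W) (e : Γ(A, V)),
      (∀ a : Γ(A, V), ∃ r : Γ(S, V), r • e = a) ∧
      Function.Bijective fun r : Γ(S', W) => r • (B.presheaf.map (homOfLE hle).op (φ.app V e) : Γ(B, W))}) ?_ ?_
  · refine Opens.isBasis_iff_nbhd.2 fun {U x} hx ↦ ?_
    obtain ⟨V, hV, hxV, e, he, hb⟩ := H x
    obtain ⟨W, hW, hxW, hle⟩ := exists_isAffineOpen_mem_and_subset (U := U ⊓ g ⁻¹ᵁ V) (x := x) ⟨hx, hxV⟩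
    have hle' : W ≤ g ⁻¹ᵁ V := fun y hy ↦ (hle hy).2
    exact ⟨W, ⟨V, hV, hle', hW, e, he, hb W hle' hW⟩, hxW, fun y hy ↦ (hle hy).1⟩
  · rintro W ⟨V, hV, hle, hW, e, he, hb⟩
    letI := (g.appLE V W hle).hom.toAlgebra
    refine (Function.Bijective.of_comp_iff _ (bijective_pbTensor g A hV hW hle)).1 ?_
    let ν := ((pullbackPushforwardAdjunction g).homEquiv A B).symm φ
    have hgen : ∀ z : TensorProduct Γ(S, V) Γ(S', W) Γ(A, V), ∃ s : Γ(S', W), z = s ⊗ₜ e := by
      intro z
      induction z using TensorProduct.induction_on with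
      | zero => exact ⟨0, (TensorProduct.zero_tmul _ _).symm⟩
      | tmul s a =>
        obtain ⟨r, rfl⟩ := he a
        exact ⟨r • s, (TensorProduct.smul_tmul _ _ _).symm⟩
      | add a b ha hb =>
        obtain ⟨s, rfl⟩ := ha
        obtain ⟨t, rfl⟩ := hb
        exact ⟨s + t, (TensorProduct.add_tmul _ _ _).symm⟩
    have hval : ∀ s : Γ(S', W), ν.app W (pbTensor g A hle (s ⊗ₜ e)) =
        s • (B.presheaf.map (homOfLE hle).op (φ.app V e) : Γ(B, W)) := by
      intro s
      rw [pbTensor_tmul, Scheme.Modules.Hom.app_smul]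
      exact congrArg (s • ·) (transpose_pbRes g φ hle e)
    constructor
    · intro a b hab
      obtain ⟨s, rfl⟩ := hgen a
      obtain ⟨t, rfl⟩ := hgen b
      rw [hb.1 ((hval s).symm.trans (hab.trans (hval t)))]
    · intro y
      obtain ⟨s, hs⟩ := hb.2 y
      exact ⟨s ⊗ₜ e, (hval s).trans hs⟩

end Groth.Agent.Lib.H70.TransposeGen
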