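import Groth.Prelude.Def_RelProj2
import Groth.Prelude.Def_GrMod3
import Groth.Agent.Lib.H70.GrGen
import Groth.Agent.Lib.H70.BCTransportScheme
import Groth.Agent.Lib.H70.QCohBasic
import Groth.Agent.H81.RelProj.RelTwistComap
import Groth.Agent.H81.RelProj.RelTwist
import Groth.Agent.H81.RelProj.TwistInv

set_option linter.style.haveILetI false
set_option linter.unusedVariables false
set_option autoImplicit false
universe u
open CategoryTheory CategoryTheory.Limits AlgebraicGeometry Opposite TopologicalSpace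
open scoped HomogeneousIdeal
noncomputable section
open Groth.Agent.H81.RelProj Groth.Agent.Lib.CohDelta.BC.Transpose

namespace Groth.Agent.Lib.H70.TwistComapIso

/-- `h^*O_A(n) ≅ O_B(n)` for the morphism of a graded homomorphism, `A` generated in degree one. -/
theorem exists_iso {Y PA PB : Scheme.{u}} {𝒜 ℬ : RelProj.QCGrAlg Y}
    (φ : 𝒜.toQCAlg ⟶ ℬ.toQCAlg) (hφ : RelProj.IsGradedHom φ) (hgen : 𝒜.IsGenDegOne)
    (hirr : ∀ (U : Y.Opens) (hU : IsAffineOpen U),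
      (ℬ.deg U hU)₊ ≤ ((𝒜.deg U hU)₊).map (RelProj.gradedHomAt φ hφ U hU))
    (pA : PA ⟶ Y) (pB : PB ⟶ Y)
    (chartA : ∀ (U : Y.Opens) (hU : IsAffineOpen U), (((pA ⁻¹ᵁ U : PA.Opens) : Scheme.{u}) ≅ Proj (𝒜.deg U hU)))
    (chartB : ∀ (U : Y.Opens) (hU : IsAffineOpen U), (((pB ⁻¹ᵁ U : PB.Opens) : Scheme.{u}) ≅ Proj (ℬ.deg U hU)))
    (hA : RelProj.IsRelProj 𝒜 pA chartA) (hB : RelProj.IsRelProj ℬ pB chartB)
    (h : PB ⟶ PA) (hh : RelProj.IsRelProjMap φ hφ hirr chartA chartB h) (n : ℤ)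
    (LA : PA.Modules)
    (lamA : ∀ (U : Y.Opens) (hU : IsAffineOpen U),
      LA ⟶ (Scheme.Modules.pushforward (RelProj.emb pA chartA U hU)).obj (GrTwist.twist (𝒜.deg U hU) n))
    (hLA : RelProj.IsRelTwist 𝒜 pA chartA n LA lamA)
    (LB : PB.Modules)
    (lamB : ∀ (U : Y.Opens) (hU : IsAffineOpen U),
      LB ⟶ (Scheme.Modules.pushforward (RelProj.emb pB chartB U hU)).obj (GrTwist.twist (ℬ.deg U hU) n))
    (hLB : RelProj.IsRelTwist ℬ pB chartB n LB lamB) :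
    Nonempty ((Scheme.Modules.pullback h).obj LA ≅ LB) := by
  classical
  obtain ⟨θ, hθ, -⟩ := Groth.Agent.H81.RelProj.RelComap.existsUnique_comap
    (ℳ := Groth.Agent.H81.RelProj.RelTilde.selfMod 𝒜) (𝒩 := Groth.Agent.H81.RelProj.RelTilde.selfMod ℬ)
    hirr (RelTwistComap.v φ hφ) (RelTwistComap.hv φ hφ) n h hA hB hh RelTwistComap.hnat RelTilde.loc_selfMod
    (TwistTilde.isRelTilde hLA) (TwistTilde.isRelTilde hLB)
  haveI hLq : LA.IsQuasicoherent := RelTwist.isQCoh hLA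
  haveI hLq' : LB.IsQuasicoherent := RelTwist.isQCoh hLB
  haveI := Groth.Agent.Lib.QCoh.Pullback.isQCoh_pullback h LA
  let adj := Scheme.Modules.pullbackPushforwardAdjunction h
  let ν := (adj.homEquiv _ _).symm θ
  have hν : ∀ U : Y.affineOpens, ν ≫ TwistTilde.lamT lamB U.1 U.2 = (adj.homEquiv _ _).symm
      (TwistTilde.lamT lamA U.1 U.2 ≫
        RelComap.κ hirr (RelTwistComap.v φ hφ) (RelTwistComap.hv φ hφ) n h hh U) := fun U => by
    rw [← hθ U]; exact (adj.homEquiv_naturality_right_symm _ _).symm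
  refine ⟨@asIso _ _ _ _ ν (isIso_of_bijective_basis ν
    (B := {W | ∃ (U : Y.affineOpens) (f : _) (_ : f ∈ 𝒜.deg U.1 U.2 1)
      (r : Γ(PB, RelProj.emb pB chartB U.1 U.2 ''ᵁ
        Proj.basicOpen (ℬ.deg U.1 U.2) (RelProj.gradedHomAt φ hφ U.1 U.2 f))),
      W = PB.basicOpen r}) ?_ ?_)⟩
  · refine Opens.isBasis_iff_nbhd.2 fun {Ω x} hx => ?_
    obtain ⟨U, hU, hxU, -⟩ := exists_isAffineOpen_mem_and_subset (U := ⊤) (x := pB x) trivial
    obtain ⟨y, rfl⟩ : x ∈ (RelProj.emb pB chartB U hU).opensRange := by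
      rw [RelTilde.opensRange_emb]; exact hxU
    obtain ⟨f, hf, hfy⟩ := TwistInv.irrelevant_le_span (𝒜.deg U hU) (hgen U hU)
      (ProjectiveSpectrum.comap (RelProj.gradedHomAt φ hφ U hU) (hirr U hU) y)
    have haff := (Proj.isAffineOpen_basicOpen (ℬ.deg U hU) _
      ((RelProj.gradedHomAt φ hφ U hU).map_mem hf) Nat.one_pos).image_of_isOpenImmersion
      (RelProj.emb pB chartB U hU)
    obtain ⟨r, hr, hxr⟩ := haff.exists_basicOpen_le (V := Ω) ⟨_, hx⟩ ⟨y, hfy, rfl⟩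
    exact ⟨_, ⟨⟨U, hU⟩, f, hf, r, rfl⟩, hxr, hr⟩
  · rintro _ ⟨⟨U, hU⟩, f, hf, r, rfl⟩
    let eA := RelProj.emb pA chartA U hU
    let eB := RelProj.emb pB chartB U hU
    let ψ₁ := RelProj.gradedHomAt φ hφ U hU
    have hf' : ψ₁ f ∈ ℬ.deg U hU 1 := ψ₁.map_mem hf
    let V := eA ''ᵁ Proj.basicOpen (𝒜.deg U hU) f
    let W := eB ''ᵁ Proj.basicOpen (ℬ.deg U hU) (ψ₁ f)
    have hV : IsAffineOpen V := (Proj.isAffineOpen_basicOpen _ f hf Nat.one_pos).image_of_isOpenImmersion eA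
    have hW : IsAffineOpen W := (Proj.isAffineOpen_basicOpen _ (ψ₁ f) hf' Nat.one_pos).image_of_isOpenImmersion eB
    have e₃ := RelComap.emb_map h hh (⟨U, hU⟩ : Y.affineOpens)
    have e : W ≤ h ⁻¹ᵁ V := by
      rintro _ ⟨y, hy, rfl⟩
      show h (eB y) ∈ V
      rw [← Scheme.Hom.comp_apply, ← e₃, Scheme.Hom.comp_apply]
      exact ⟨_, hy, rfl⟩
    have hVr : V ≤ eA.opensRange := eA.image_le_opensRange _
    have hWr : W ≤ eB.opensRange := eB.image_le_opensRange _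
    have hVU : V ≤ pA ⁻¹ᵁ U := hVr.trans (RelTilde.opensRange_emb pA chartA U hU).le
    have hWU : W ≤ pB ⁻¹ᵁ U := hWr.trans (RelTilde.opensRange_emb pB chartB U hU).le
    have e₀ : eB ⁻¹ᵁ W ≤ Proj.map ψ₁ (hirr U hU) ⁻¹ᵁ (eA ⁻¹ᵁ V) := by
      rw [eB.preimage_image_eq, eA.preimage_image_eq]; exact le_rfl
    have gen : ∀ (V₀ : (Proj (𝒜.deg U hU)).Opens) (W₀ : (Proj (ℬ.deg U hU)).Opens)
        (e₀ : W₀ ≤ Proj.map ψ₁ (hirr U hU) ⁻¹ᵁ V₀),
        V₀ = Proj.basicOpen (𝒜.deg U hU) f → W₀ = Proj.basicOpen (ℬ.deg U hU) (ψ₁ f) →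
        Groth.Agent.Lib.H70.BCLift.IsBC ((Proj.map ψ₁ (hirr U hU)).appLE V₀ W₀ e₀).hom
          (Groth.Agent.Lib.H70.BCLift.sectMap (Proj.map ψ₁ (hirr U hU))
            (GrMod.comap ψ₁ (hirr U hU) (RelTwistComap.v φ hφ U hU) (RelTwistComap.hv φ hφ U hU) n) e₀) := by
      rintro V₀ W₀ e₀ rfl rfl
      exact Groth.Agent.Lib.H70.GrGen.isBC ψ₁ (hirr U hU) (RelTwistComap.v φ hφ U hU)
        (RelTwistComap.hv φ hφ U hU) (map_one ψ₁) hf n e₀
    have hbc := Groth.Agent.Lib.H70.BCTransportScheme.isBC_push ψ₁ (hirr U hU) (RelTwistComap.v φ hφ U hU)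
      (RelTwistComap.hv φ hφ U hU) n h eA eB e₃ (TwistTilde.lamT lamA U hU) V W hVr hWr
      ((TwistTilde.isRelTilde hLA).bijective U hU V hVU) e e₀
      (gen _ _ e₀ (eA.preimage_image_eq _) (eB.preimage_image_eq _))
    have hbij := Groth.Agent.Lib.H70.BCLift.bijective_transpose h _ hV hW e hbc
    have hνW : Function.Bijective (ν.app W) := by
      have hνj := hν ⟨U, hU⟩
      have hbij' : Function.Bijective ((ν ≫ TwistTilde.lamT lamB U hU).app W) := by rw [hνj]; exact hbij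
      exact (Function.Bijective.of_comp_iff' ((TwistTilde.isRelTilde hLB).bijective U hU W hWU) (ν.app W)).1 hbij'
    exact Groth.Agent.Lib.H70.QCohBasic.bijective_basicOpen ν hW hνW r

end Groth.Agent.Lib.H70.TwistComapIso
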