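import Groth.Agent.H58VA.RelVA
import Groth.Agent.Lib.Ample.GG
import Groth.Agent.Lib.Ample.CounitCrit
import Groth.Agent.H81.RelProj.RelTensor
import Groth.Agent.H81.RelProj.RelTwist
import Groth.Agent.H81.RelProj.TwistInv

set_option linter.style.haveILetI false

/-!
# `F(n)` is generated by its sections over the base, `n` large
-/

noncomputable section

universe u

open CategoryTheory CategoryTheory.Limits AlgebraicGeometry Opposite TopologicalSpace
open scoped HomogeneousIdeal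

namespace Groth.Agent.Lib.H70.TwistGG

open Groth.Agent.Lib Groth.Agent.H58VA Groth.Agent.H81.RelProj TensorMod TensorMod.Gen Ample.GG

variable {Y P : Scheme.{u}} {𝒮 : RelProj.QCGrAlg Y} {p : P ⟶ Y}
  {chart : ∀ (U : Y.Opens) (hU : IsAffineOpen U), (((p ⁻¹ᵁ U : P.Opens) : Scheme.{u}) ≅ Proj (𝒮.deg U hU))}
  (hP : RelProj.IsRelProj 𝒮 p chart) (hgen : 𝒮.IsGenDegOne) (hft : 𝒮.IsFTDeg 1)

include hP hgen in
theorem tensorPow_iso {O1 : P.Modules}
    {lam1 : ∀ (U : Y.Opens) (hU : IsAffineOpen U),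
      O1 ⟶ (Scheme.Modules.pushforward (RelProj.emb p chart U hU)).obj (GrTwist.twist (𝒮.deg U hU) 1)}
    (h1 : RelProj.IsRelTwist 𝒮 p chart 1 O1 lam1) :
    ∀ (n : ℕ) (L : P.Modules) (lam : ∀ (U : Y.Opens) (hU : IsAffineOpen U),
      L ⟶ (Scheme.Modules.pushforward (RelProj.emb p chart U hU)).obj (GrTwist.twist (𝒮.deg U hU) ((n : ℤ) + 1))),
      RelProj.IsRelTwist 𝒮 p chart ((n : ℤ) + 1) L lam → Nonempty (CohB1.tensorPow O1 (n + 1) ≅ L) := by
  intro n
  induction n with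
  | zero =>
    intro L lam hL
    obtain ⟨⟨φ, hφ, -⟩, hiso⟩ := RelTilde.existsUnique (ℳ := RelTilde.selfMod 𝒮) (n := (1 : ℤ)) hP
      RelTilde.loc_selfMod (TwistTilde.isRelTilde h1) (TwistTilde.isRelTilde (n := (1 : ℤ)) hL)
    haveI := hiso φ hφ
    exact ⟨Ample.Pow.powOne O1 ≪≫ asIso φ⟩
  | succ n ih =>
    rw [show ((n + 1 : ℕ) : ℤ) + 1 = ((n : ℤ) + 1) + 1 by omega]
    intro L lam hL
    obtain ⟨Ln, lamn, hn⟩ := RelTwist.exists_isRelTwist hP ((n : ℤ) + 1)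
    obtain ⟨en⟩ := ih Ln lamn hn
    obtain ⟨e⟩ := RelTensor.twist_tensor_twist hP hgen hn h1 hL
    exact ⟨TensorMod.Basic.tensorIso en (Iso.refl O1) ≪≫ e⟩

include hgen hft in
theorem isAmple_restrict {O1 : P.Modules}
    {lam1 : ∀ (U : Y.Opens) (hU : IsAffineOpen U),
      O1 ⟶ (Scheme.Modules.pushforward (RelProj.emb p chart U hU)).obj (GrTwist.twist (𝒮.deg U hU) 1)}
    (h1 : RelProj.IsRelTwist 𝒮 p chart 1 O1 lam1) {U : Y.Opens} (hU : IsAffineOpen U) :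
    CohB1.IsAmple (O1.restrict (p ⁻¹ᵁ U).ι) ∧ QuasiSeparatedSpace (p ⁻¹ᵁ U : Scheme.{u}) := by
  classical
  have hcov := TwistInv.irrelevant_le_span (𝒮.deg U hU) (hgen U hU)
  obtain ⟨T, hT, hTgen⟩ := hft U hU
  have hsup : (⨆ t : T, Proj.basicOpen (𝒮.deg U hU) (t : 𝒮.presheaf.obj (op U))) = ⊤ := by
    refine top_le_iff.1 fun y _ => ?_
    obtain ⟨f, hf, hfy⟩ := hcov y
    by_contra hno
    refine hfy ?_
    obtain ⟨c, rfl⟩ := hTgen f hf
    refine Ideal.sum_mem _ fun t ht => Ideal.mul_mem_left _ _ ?_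
    by_contra h
    exact hno (Opens.mem_iSup.2 ⟨⟨t, ht⟩, h⟩)
  haveI : CompactSpace (Proj (𝒮.deg U hU)) := by
    constructor
    rw [← Opens.coe_top, ← hsup, Opens.coe_iSup]
    exact isCompact_iUnion fun t : T => (Proj.isAffineOpen_basicOpen _ _ (hT t.2) Nat.one_pos).isCompact
  haveI : IsAffine (U : Scheme.{u}) := hU
  haveI : QuasiSeparatedSpace (Proj (𝒮.deg U hU)) :=
    quasiSeparatedSpace_of_quasiSeparated (Proj.toSpecZero (𝒮.deg U hU))
  haveI := quasiSeparatedSpace_of_quasiSeparated (chart U hU).hom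
  have hA : CohB1.IsAmple (GrTwist.twist (𝒮.deg U hU) ((1 : ℕ) : ℤ)) :=
    Ample.Pow.isAmple_iff.2 ⟨GrTwistOne.isInvertible_twist (d := 1) hcov, inferInstance,
      GrTwistOne.affineAt_twist (d := 1) hcov one_pos⟩
  obtain ⟨ε⟩ := RelVA.pullback_emb_iso h1 hU
  have h := Ample.Pullback.isAmple_pullback (chart U hU).hom (Ample.Pullback.isQuasiAffine_of_isAffineHom _) hA
  refine ⟨Ample.Pow.isAmple_of_iso ?_ h, inferInstance⟩
  exact (Scheme.Modules.pullback _).mapIso ε.symm ≪≫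
    (Scheme.Modules.pullbackComp _ (RelProj.emb p chart U hU)).app O1 ≪≫
    (Scheme.Modules.pullbackCongr (show (chart U hU).hom ≫ RelProj.emb p chart U hU = (p ⁻¹ᵁ U).ι by
      simp [RelProj.emb])).app O1 ≪≫
    ((Scheme.Modules.restrictFunctorIsoPullback _).app O1).symm

include hP hgen hft in
/-- For `n` large the sections over affine opens generate `F(n)` everywhere. -/
theorem eventually_genAt' [CompactSpace Y] (F : P.Modules) (hF : Coh.IsCoh F) :
    ∃ n₀ : ℤ, ∀ (n : ℤ), n₀ ≤ n → ∀ (L : P.Modules)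
      (lam : ∀ (U : Y.Opens) (hU : IsAffineOpen U),
      L ⟶ (Scheme.Modules.pushforward (RelProj.emb p chart U hU)).obj (GrTwist.twist (𝒮.deg U hU) n)),
      RelProj.IsRelTwist 𝒮 p chart n L lam →
        ∀ x : P, ∃ (V : Y.Opens) (_ : IsAffineOpen V) (_ : p x ∈ V) (M : (p ⁻¹ᵁ V : Scheme.{u}).Modules)
          (_ : M ≅ (CohB1.tensorMod F L).restrict (p ⁻¹ᵁ V).ι) (z : (p ⁻¹ᵁ V : Scheme.{u})),
            (p ⁻¹ᵁ V).ι z = x ∧ GenAt M z := by
  classical
  obtain ⟨O1, lam1, h1⟩ := RelTwist.exists_isRelTwist hP 1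
  choose U hU hxU hle using fun y : Y =>
    exists_isAffineOpen_mem_and_subset (X := Y) (x := y) (U := ⊤) trivial
  obtain ⟨t, ht⟩ := isCompact_univ.elim_finite_subcover (fun y => (U y : Set Y)) (fun y => (U y).isOpen)
    fun y _ => Set.mem_iUnion.2 ⟨y, hxU y⟩
  have key : ∀ y : Y, ∃ n₀ : ℕ, ∀ n, n₀ ≤ n → ∀ z : (p ⁻¹ᵁ U y : Scheme.{u}), GenAt
      ((CohB1.tensorMod F (CohB1.tensorPow O1 n)).restrict (p ⁻¹ᵁ U y).ι) z := by
    intro y
    obtain ⟨hA, hq⟩ := isAmple_restrict hgen hft h1 (hU y)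
    have hFc : Coh.IsCoh ((Scheme.Modules.pullback (p ⁻¹ᵁ U y).ι).obj F) := by
      haveI := hF.1
      haveI := hF.2
      exact ⟨QCoh.Pullback.isQCoh_pullback _ F, Modules.SupportOps.isFT_pullback _ F⟩
    obtain ⟨n₀, hn₀⟩ := eventually_genAt_twist hA _ hFc
    refine ⟨n₀, fun n hn z => (hn₀ n hn z).of_iso ?_⟩
    exact TensorMod.Basic.tensorIso ((Scheme.Modules.restrictFunctorIsoPullback _).app F).symm
        (Ample.Pow.restrictPow _ O1 n).symm ≪≫
      (TensorMod.Pullback.restrictTensorIso _ F _).symm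
  choose N hN using key
  refine ⟨((t.sup N : ℕ) : ℤ) + 1, fun n hn L lam hL x => ?_⟩
  obtain ⟨m, rfl⟩ : ∃ m : ℕ, n = (m : ℤ) + 1 := ⟨(n - 1).toNat, by omega⟩
  obtain ⟨eL⟩ := tensorPow_iso hP hgen h1 m L lam hL
  obtain ⟨y, hy, hxy⟩ := Set.mem_iUnion₂.1 (ht (Set.mem_univ (p x)))
  have hle : N y ≤ m + 1 := (Finset.le_sup hy).trans (by omega)
  exact ⟨U y, hU y, hxy, _,
    (Scheme.Modules.restrictFunctor (p ⁻¹ᵁ U y).ι).mapIso (TensorMod.Basic.tensorIso (Iso.refl F) eL),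
    ⟨x, hxy⟩, rfl, hN y (m + 1) hle _⟩

include hP hgen hft in
/-- For `n` large the counit is an epimorphism at `F(n)`. -/
theorem eventually_epi_counit [CompactSpace Y] (F : P.Modules) (hF : Coh.IsCoh F) :
    ∃ n₀ : ℤ, ∀ (n : ℤ), n₀ ≤ n → ∀ (L : P.Modules)
      (lam : ∀ (U : Y.Opens) (hU : IsAffineOpen U),
      L ⟶ (Scheme.Modules.pushforward (RelProj.emb p chart U hU)).obj (GrTwist.twist (𝒮.deg U hU) n)),
      RelProj.IsRelTwist 𝒮 p chart n L lam →
        Epi ((Scheme.Modules.pullbackPushforwardAdjunction p).counit.app (CohB1.tensorMod F L)) := by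
  obtain ⟨n₀, h⟩ := eventually_genAt' hP hgen hft F hF
  refine ⟨n₀, fun n hn L lam hL => (Modules.Stalk.epi_iff_stalk_surjective _).2 fun x
    (v : (CohB1.tensorMod F L).presheaf.stalk x) => ?_⟩
  obtain ⟨V, _, _, M, e, z, rfl, hg⟩ := h n hn L lam hL x
  exact (Ample.CounitCrit.range_counit_eq_top p (CohB1.tensorMod F L) V e z hg).ge (Submodule.mem_top (x := v))

include hP hgen hft in
/-- For `n` large the stalks of `F(n)` are generated by sections over preimages of affine opens. -/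
theorem eventually_span [CompactSpace Y] (F : P.Modules) (hF : Coh.IsCoh F) :
    ∃ n₀ : ℤ, ∀ (n : ℤ), n₀ ≤ n → ∀ (L : P.Modules)
      (lam : ∀ (U : Y.Opens) (hU : IsAffineOpen U),
      L ⟶ (Scheme.Modules.pushforward (RelProj.emb p chart U hU)).obj (GrTwist.twist (𝒮.deg U hU) n)),
      RelProj.IsRelTwist 𝒮 p chart n L lam →
        ∀ x : P, ∃ (U : Y.Opens) (_ : IsAffineOpen U) (hx : p x ∈ U), Submodule.span (P.presheaf.stalk x)
          (Set.range fun t : Γ(CohB1.tensorMod F L, p ⁻¹ᵁ U) =>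
            (CohB1.tensorMod F L).presheaf.germ (p ⁻¹ᵁ U) x hx t) = ⊤ := by
  obtain ⟨n₀, h⟩ := eventually_genAt' hP hgen hft F hF
  refine ⟨n₀, fun n hn L lam hL x => ?_⟩
  obtain ⟨V, hV, hxV, M, e, z, rfl, hg⟩ := h n hn L lam hL x
  refine ⟨V, hV, hxV, eq_top_iff.2 fun v _ => ?_⟩
  let T := CohB1.tensorMod F L
  let O := p ⁻¹ᵁ V
  have h' := GenAt.of_iso e hg
  obtain ⟨w, hw⟩ := (Modules.StalkRestrict.restrictStalkAddEquiv O.ι T z).surjective v
  have hmem : v ∈ Submodule.span (P.presheaf.stalk (O.ι z)) (Modules.StalkRestrict.restrictStalkAddEquiv O.ι T z ''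
      Set.range fun t : Γ(T.restrict O.ι, ⊤) => gm (memTop z) t) := by
    rw [← SetLike.mem_coe]
    exact (Modules.StalkRestrict.span_image_restrictStalkAddEquiv O.ι T z _).ge
      ⟨w, h'.ge Submodule.mem_top, hw⟩
  refine Submodule.span_mono ?_ hmem
  rintro _ ⟨_, ⟨t, rfl⟩, rfl⟩
  refine ⟨TensorMod.Dual.rs T O.ι_image_top.ge t, ?_⟩
  exact (gm_rs (M := T) O.ι_image_top.ge z.2 _).trans
    (Modules.StalkRestrict.restrictStalkAddEquiv_germ O.ι T (memTop z) t).symm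

end Groth.Agent.Lib.H70.TwistGG
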